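import Mathlib
import Cfsg.Prelude.Def_Transfer
import Cfsg.Prelude.Def_Solvable
import Cfsg.Agent.Lib.PSolvable.Core

/-!
Large extraspecial 2-subgroups, in element form (`Good X x`: the subgroup `X` behaves like
`O₂(C(x))` when that is extraspecial and self-centralizing): duality, inner automorphisms,
symmetry of orthogonality.
-/

set_option autoImplicit false

namespace Cfsg.Agent.Lib.LargeExtra

variable {G : Type*} [Group G]

/-- `X` is an extraspecial 2-subgroup with centre `{1, x}`, normalized by `C(x)`, containing its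
centralizer. -/
structure Good (X : Subgroup G) (x : G) : Prop where
  x_mem : x ∈ X
  x_sq : x * x = 1
  x_ne : x ≠ 1
  le_cent : ∀ q ∈ X, q * x = x * q
  comm : ∀ a ∈ X, ∀ b ∈ X, a * b * a⁻¹ = b ∨ a * b * a⁻¹ = b * x
  centre : ∀ a ∈ X, (∀ b ∈ X, a * b = b * a) → a = 1 ∨ a = x
  nonab : ∃ a ∈ X, ∃ b ∈ X, a * b ≠ b * a
  norm : ∀ g, g * x = x * g → ∀ q ∈ X, g * q * g⁻¹ ∈ X
  cent : ∀ g, (∀ q ∈ X, g * q = q * g) → g ∈ X

theorem conj_eq_iff_comm {a b : G} : a * b * a⁻¹ = b ↔ a * b = b * a := mul_inv_eq_iff_eq_mul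

variable {X : Subgroup G} {x : G}

theorem eq_or_of_mem_zpowers {x u : G} (hx : x * x = 1) (hu : u ∈ Subgroup.zpowers x) :
    u = 1 ∨ u = x := by
  obtain ⟨i, rfl⟩ := Subgroup.mem_zpowers_iff.1 hu
  rcases Int.even_or_odd i with ⟨j, rfl⟩ | ⟨j, rfl⟩
  · left; rw [← two_mul, zpow_mul, zpow_two, hx, one_zpow]
  · right; rw [zpow_add, zpow_mul, zpow_two, hx, one_zpow, one_mul, zpow_one]


theorem Good.sq_cases (h : Good X x) {a : G} (ha : a ∈ X) : a * a = 1 ∨ a * a = x := by
  refine h.centre _ (mul_mem ha ha) fun b hb => ?_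
  rw [← conj_eq_iff_comm]
  have : a * a * b * (a * a)⁻¹ = a * (a * b * a⁻¹) * a⁻¹ := by group
  rw [this]
  rcases h.comm a ha b hb with e | e
  · rw [e, e]
  · rw [e]
    calc a * (b * x) * a⁻¹ = (a * b * a⁻¹) * (a * x) * a⁻¹ := by group
      _ = b * x * x := by rw [e, h.le_cent a ha]; group
      _ = b := by rw [mul_assoc, h.x_sq, mul_one]

/-- For `x ∈ S ≤ X`, adjoining `s ∈ X` to `S`. -/
def extend (h : Good X x) (S : Subgroup G) (hS : S ≤ X) (hx : x ∈ S) (s : G) (hs : s ∈ X) :
    Subgroup G where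
  carrier := {g | g ∈ S ∨ s⁻¹ * g ∈ S}
  one_mem' := Or.inl S.one_mem
  mul_mem' := by
    have hss : s * s ∈ S := by
      rcases h.sq_cases hs with e | e <;> rw [e]
      exacts [S.one_mem, hx]
    have hconj : ∀ a ∈ S, s⁻¹ * a * s ∈ S := by
      intro a ha
      have := h.comm s⁻¹ (inv_mem hs) a (hS ha)
      rw [inv_inv] at this
      rcases this with e | e <;> rw [e]
      exacts [ha, mul_mem ha hx]
    rintro a b (ha | ha) (hb | hb)
    · exact Or.inl (mul_mem ha hb)
    · refine Or.inr ?_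
      have := mul_mem (hconj a ha) hb
      simpa [mul_assoc] using this
    · refine Or.inr ?_
      simpa [mul_assoc] using mul_mem ha hb
    · refine Or.inl ?_
      have := mul_mem hss (mul_mem (hconj _ ha) hb)
      simpa [mul_assoc] using this
  inv_mem' := by
    have hss : s * s ∈ S := by
      rcases h.sq_cases hs with e | e <;> rw [e]
      exacts [S.one_mem, hx]
    rintro a (ha | ha)
    · exact Or.inl (inv_mem ha)
    · refine Or.inr ?_
      have hc : s * (s⁻¹ * a)⁻¹ * s⁻¹ ∈ S := by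
        rcases h.comm s hs _ (hS (inv_mem ha)) with e | e <;> rw [e]
        exacts [inv_mem ha, mul_mem (inv_mem ha) hx]
      have := mul_mem (inv_mem hss) hc
      simpa [mul_assoc] using this

theorem mem_extend {h : Good X x} {S : Subgroup G} {hS : S ≤ X} {hx : x ∈ S} {s : G}
    {hs : s ∈ X} {g : G} : g ∈ extend h S hS hx s hs ↔ g ∈ S ∨ s⁻¹ * g ∈ S := Iff.rfl

theorem le_extend (h : Good X x) (S : Subgroup G) (hS : S ≤ X) (hx : x ∈ S) (s : G) (hs : s ∈ X) :
    S ≤ extend h S hS hx s hs := fun _ ha => Or.inl ha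

theorem self_mem_extend (h : Good X x) (S : Subgroup G) (hS : S ≤ X) (hx : x ∈ S) (s : G)
    (hs : s ∈ X) : s ∈ extend h S hS hx s hs := Or.inr (by rw [inv_mul_cancel]; exact S.one_mem)

theorem extend_le (h : Good X x) (S : Subgroup G) (hS : S ≤ X) (hx : x ∈ S) (s : G) (hs : s ∈ X) :
    extend h S hS hx s hs ≤ X := by
  rintro g (hg | hg)
  · exact hS hg
  · simpa using mul_mem hs (hS hg)

theorem card_extend [Finite G] (h : Good X x) (S : Subgroup G) (hS : S ≤ X) (hx : x ∈ S) (s : G)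
    (hs : s ∈ X) (hsS : s ∉ S) : Nat.card (extend h S hS hx s hs) = 2 * Nat.card S := by
  have hset : (extend h S hS hx s hs : Set G) = (S : Set G) ∪ (s * ·) '' (S : Set G) := by
    ext g
    simp only [SetLike.mem_coe, mem_extend, Set.mem_union, Set.mem_image]
    refine or_congr Iff.rfl ⟨fun hg => ⟨_, hg, by group⟩, ?_⟩
    rintro ⟨a, ha, rfl⟩
    simpa using ha
  have hd : Disjoint (S : Set G) ((s * ·) '' (S : Set G)) := by
    rw [Set.disjoint_left]
    rintro g hg ⟨a, ha, rfl⟩
    exact hsS (by simpa using mul_mem hg (inv_mem ha))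
  rw [show Nat.card (extend h S hS hx s hs) = ((extend h S hS hx s hs : Subgroup G) : Set G).ncard
    from Nat.card_coe_set_eq _, hset, Set.ncard_union_eq hd,
    Set.ncard_image_of_injective _ (mul_right_injective s),
    show Nat.card S = (S : Set G).ncard from Nat.card_coe_set_eq _]
  ring

/-- The elements of `X` commuting with all of `S`. -/
def centIn (X S : Subgroup G) : Set G := {q | q ∈ X ∧ ∀ a ∈ S, q * a = a * q}

theorem ncard_centIn_le [Finite G] (h : Good X x) (S : Subgroup G) (hS : S ≤ X) (hx : x ∈ S)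
    (s : G) (hs : s ∈ X) :
    (centIn X S).ncard ≤ 2 * (centIn X (extend h S hS hx s hs)).ncard := by
  let C' := centIn X (extend h S hS hx s hs)
  have hC' : ∀ q ∈ centIn X S, q * s * q⁻¹ = s → q ∈ C' := by
    rintro q ⟨hqX, hq⟩ hqs
    rw [conj_eq_iff_comm] at hqs
    refine ⟨hqX, fun a ha => ?_⟩
    rcases ha with ha | ha
    · exact hq a ha
    · have h1 : Commute q (s⁻¹ * a) := hq _ ha
      have h2 : Commute q (s * (s⁻¹ * a)) := Commute.mul_right hqs h1
      rwa [mul_inv_cancel_left] at h2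
  by_cases hall : ∀ q ∈ centIn X S, q * s * q⁻¹ = s
  · have : (centIn X S).ncard ≤ C'.ncard := Set.ncard_le_ncard (fun q hq => hC' q hq (hall q hq))
    show _ ≤ 2 * C'.ncard
    omega
  · push Not at hall
    obtain ⟨p, hp, hps⟩ := hall
    have hps' : p * s * p⁻¹ = s * x := (h.comm p hp.1 s hs).resolve_left hps
    have hsub : centIn X S ⊆ C' ∪ (p * ·) '' C' := by
      intro q hq
      rcases h.comm q hq.1 s hs with e | e
      · exact Or.inl (hC' q hq e)
      · refine Or.inr ⟨p⁻¹ * q, hC' _ ⟨mul_mem (inv_mem hp.1) hq.1, fun a ha => ?_⟩ ?_, by group⟩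
        · exact (Commute.inv_left (hp.2 a ha)).mul_left (hq.2 a ha)
        · calc p⁻¹ * q * s * (p⁻¹ * q)⁻¹ = p⁻¹ * (q * s * q⁻¹) * p := by group
            _ = p⁻¹ * (p * s * p⁻¹) * p := by rw [e, hps']
            _ = s := by group
    calc (centIn X S).ncard ≤ (C' ∪ (p * ·) '' C').ncard := Set.ncard_le_ncard hsub
      _ ≤ C'.ncard + ((p * ·) '' C').ncard := Set.ncard_union_le _ _
      _ ≤ 2 * C'.ncard := by
        rw [Set.ncard_image_of_injective _ (mul_right_injective p)]; omega

theorem step [Finite G] (h : Good X x) (S : Subgroup G) (hS : S ≤ X) (hx : x ∈ S)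
    (s : G) (hs : s ∈ X) (hsS : s ∉ S) :
    Nat.card S * (centIn X S).ncard ≤
      Nat.card (extend h S hS hx s hs) * (centIn X (extend h S hS hx s hs)).ncard := by
  rw [card_extend h S hS hx s hs hsS]
  have := ncard_centIn_le h S hS hx s hs
  calc Nat.card S * (centIn X S).ncard
      ≤ Nat.card S * (2 * (centIn X (extend h S hS hx s hs)).ncard) := Nat.mul_le_mul_left _ this
    _ = _ := by ring

theorem centIn_self [Finite G] (h : Good X x) : (centIn X X).ncard = 2 := by
  have : centIn X X = {1, x} := by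
    ext q
    refine ⟨fun hq => h.centre q hq.1 hq.2, ?_⟩
    rintro (rfl | rfl)
    · exact ⟨X.one_mem, fun a _ => by rw [one_mul, mul_one]⟩
    · exact ⟨h.x_mem, fun a ha => (h.le_cent a ha).symm⟩
  rw [this, Set.ncard_pair (Ne.symm h.x_ne)]

theorem mul_centIn_le [Finite G] (h : Good X x) (S : Subgroup G) (hS : S ≤ X) (hx : x ∈ S) :
    Nat.card S * (centIn X S).ncard ≤ 2 * Nat.card X := by
  induction S using WellFoundedGT.induction with
  | ind S ih =>
    by_cases hXS : X ≤ S
    · obtain rfl : S = X := le_antisymm hS hXS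
      rw [centIn_self h]; exact le_of_eq (mul_comm _ _)
    · obtain ⟨s, hs, hsS⟩ := Set.not_subset.1 hXS
      exact (step h S hS hx s hs hsS).trans
        (ih _ (lt_of_le_not_ge (le_extend h S hS hx s hs)
          (fun hh => hsS (hh (self_mem_extend h S hS hx s hs))))
          (extend_le h S hS hx s hs) (Or.inl hx))

theorem le_mul_centIn [Finite G] (h : Good X x) (S : Subgroup G) (hS : S ≤ X) (hx : x ∈ S) :
    2 * Nat.card X ≤ Nat.card S * (centIn X S).ncard := by
  have hbase : ∃ T : Subgroup G, T ≤ S ∧ x ∈ T ∧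
      2 * Nat.card X ≤ Nat.card T * (centIn X T).ncard := by
    refine ⟨Subgroup.zpowers x, Subgroup.zpowers_le.2 hx, Subgroup.mem_zpowers x, ?_⟩
    have hc : centIn X (Subgroup.zpowers x) = (X : Set G) := by
      ext q
      refine ⟨fun hq => hq.1, fun hq => ⟨hq, fun a ha => ?_⟩⟩
      obtain ⟨i, rfl⟩ := Subgroup.mem_zpowers_iff.1 ha
      exact (Commute.zpow_right (h.le_cent q hq) i)
    rw [hc, Nat.card_zpowers, ← Nat.card_coe_set_eq,
      orderOf_eq_prime (p := 2) (by rw [pow_two, h.x_sq]) h.x_ne]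
    rfl
  obtain ⟨T, ⟨hTS, hxT, hT⟩, hmax⟩ :=
    WellFounded.has_min (wellFounded_gt (α := Subgroup G))
      {T : Subgroup G | T ≤ S ∧ x ∈ T ∧ 2 * Nat.card X ≤ Nat.card T * (centIn X T).ncard} hbase
  by_cases hST : S ≤ T
  · obtain rfl : T = S := le_antisymm hTS hST
    exact hT
  · obtain ⟨s, hs, hsT⟩ := Set.not_subset.1 hST
    exfalso
    refine hmax (extend h T (hTS.trans hS) hxT s (hS hs)) ⟨?_, Or.inl hxT, ?_⟩ ?_
    · rintro g (hg | hg)
      · exact hTS hg
      · simpa using mul_mem hs (hTS hg)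
    · exact hT.trans (step h T (hTS.trans hS) hxT s (hS hs) hsT)
    · exact lt_of_le_not_ge (le_extend h T (hTS.trans hS) hxT s (hS hs))
        (fun hh => hsT (hh (self_mem_extend h T (hTS.trans hS) hxT s (hS hs))))

/-- Duality: `C(C(S)) = S` in `X` for `x ∈ S ≤ X`. -/
theorem exists_separating [Finite G] (h : Good X x) (S : Subgroup G) (hS : S ≤ X) (hx : x ∈ S)
    {y : G} (hy : y ∈ X) (hyS : y ∉ S) :
    ∃ p ∈ X, (∀ a ∈ S, p * a = a * p) ∧ p * y * p⁻¹ = y * x := by
  by_contra hno
  push Not at hno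
  have heq : centIn X (extend h S hS hx y hy) = centIn X S := by
    ext q
    refine ⟨fun hq => ⟨hq.1, fun a ha => hq.2 a (Or.inl ha)⟩, fun hq => ⟨hq.1, fun a ha => ?_⟩⟩
    rcases ha with ha | ha
    · exact hq.2 a ha
    · have e := (h.comm q hq.1 y hy).resolve_right (hno q hq.1 hq.2)
      have h1 : Commute q y := conj_eq_iff_comm.1 e
      have h2 := h1.mul_right (hq.2 _ ha : Commute q (y⁻¹ * a))
      rwa [mul_inv_cancel_left] at h2
  have h1 := mul_centIn_le h _ (extend_le h S hS hx y hy) (Or.inl hx)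
  have h2 := le_mul_centIn h S hS hx
  rw [heq, card_extend h S hS hx y hy hyS] at h1
  have hpos : 0 < Nat.card X := Nat.card_pos
  nlinarith

/-- An element inducing on `X` an automorphism trivial modulo `⟨x⟩` lies in `X`. -/
theorem mem_of_inner [Finite G] (h : Good X x) (g : G)
    (hg : ∀ q ∈ X, g * q * g⁻¹ = q ∨ g * q * g⁻¹ = q * x) : g ∈ X := by
  by_cases hall : ∀ q ∈ X, g * q = q * g
  · exact h.cent g hall
  push Not at hall
  obtain ⟨y, hy, hgy⟩ := hall
  let K : Subgroup G := X ⊓ Subgroup.centralizer {g}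
  have hK : ∀ q, q ∈ K ↔ q ∈ X ∧ g * q = q * g := fun q => by
    simp [K, Subgroup.mem_centralizer_iff]
  obtain ⟨a, ha, b, hb, hab⟩ := h.nonab
  have hgx : g * x = x * g := by
    have hxc : g * x * g⁻¹ = x := by
      rcases hg x h.x_mem with e | e
      · exact e
      · rw [h.x_sq] at e
        exact absurd (by simpa using e) h.x_ne
    exact conj_eq_iff_comm.1 hxc
  have hxK : x ∈ K := (hK x).2 ⟨h.x_mem, hgx⟩
  have hyK : y ∉ K := fun e => hgy ((hK y).1 e).2
  obtain ⟨p, hp, hpK, hpy⟩ := exists_separating h K inf_le_left hxK hy hyK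
  have key : ∀ q ∈ X, g * q * g⁻¹ = p * q * p⁻¹ := by
    intro q hq
    rcases hg q hq with e | e
    · have : q ∈ K := (hK q).2 ⟨hq, conj_eq_iff_comm.1 e⟩
      rw [e, eq_comm, conj_eq_iff_comm]
      exact hpK q this
    · rw [e]
      rcases h.comm p hp q hq with e' | e'
      · exfalso
        have hgy' : g * y * g⁻¹ = y * x :=
          (hg y hy).resolve_left (fun e => hgy (conj_eq_iff_comm.1 e))
        have hk : q⁻¹ * y ∈ K := by
          refine (hK _).2 ⟨mul_mem (inv_mem hq) hy, conj_eq_iff_comm.1 ?_⟩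
          calc g * (q⁻¹ * y) * g⁻¹ = (g * q * g⁻¹)⁻¹ * (g * y * g⁻¹) := by group
            _ = x⁻¹ * (q⁻¹ * y * x) := by rw [e, hgy']; group
            _ = x⁻¹ * (x * (q⁻¹ * y)) := by rw [h.le_cent _ (mul_mem (inv_mem hq) hy)]
            _ = q⁻¹ * y := by group
        have h1 : Commute p q := conj_eq_iff_comm.1 e'
        have h2 : Commute p (q * (q⁻¹ * y)) := h1.mul_right (hpK _ hk)
        rw [mul_inv_cancel_left] at h2
        have : y * x = y := by rw [← hpy]; exact conj_eq_iff_comm.2 h2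
        exact h.x_ne (by simpa using this)
      · exact e'.symm
  have hpg : p⁻¹ * g ∈ X := by
    refine h.cent _ fun q hq => conj_eq_iff_comm.1 ?_
    calc p⁻¹ * g * q * (p⁻¹ * g)⁻¹ = p⁻¹ * (g * q * g⁻¹) * p := by group
      _ = q := by rw [key q hq]; group
  simpa using mul_mem hp hpg

/-- Symmetry of orthogonality. -/
theorem symm [Finite G] {Z : Subgroup G} {z : G} (hX : Good X x) (hZ : Good Z z)
    (hconj : ∀ τ : G, τ * z * τ⁻¹ = x → ∀ q, q ∈ X ↔ τ⁻¹ * q * τ ∈ Z)
    (hxZ : x ∈ Z) : z ∈ X := by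
  by_cases hne : x = z
  · exact hne ▸ hX.x_mem
  have hxz : x * z = z * x := hZ.le_cent x hxZ
  have hxS : x ∉ Subgroup.zpowers z := by
    exact fun hh => (eq_or_of_mem_zpowers hZ.x_sq hh).elim hX.x_ne hne
  obtain ⟨a, ha, -, hax⟩ := exists_separating hZ (Subgroup.zpowers z)
    (Subgroup.zpowers_le.2 hZ.x_mem) (Subgroup.mem_zpowers z) hxZ hxS
  have haz : a * z = z * a := hZ.le_cent a ha
  by_cases hq : ∃ q ∈ X, q * z * q⁻¹ = z * x
  · obtain ⟨q, hqX, hqz⟩ := hq
    have hqx : q * x = x * q := hX.le_cent q hqX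
    have hτz : (a * q) * z * (a * q)⁻¹ = x := by
      calc (a * q) * z * (a * q)⁻¹ = a * (q * z * q⁻¹) * a⁻¹ := by group
        _ = (a * z) * a⁻¹ * (a * x * a⁻¹) := by rw [hqz]; group
        _ = z * (x * z) := by rw [haz, hax]; group
        _ = (z * z) * x := by rw [hxz]; group
        _ = x := by rw [hZ.x_sq, one_mul]
    have hτx : (a * q) * x * (a * q)⁻¹ = x * z := by
      calc (a * q) * x * (a * q)⁻¹ = a * (q * x * q⁻¹) * a⁻¹ := by group
        _ = x * z := by rw [hqx, mul_inv_cancel_right, hax]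
    have hτxz : (a * q) * (x * z) * (a * q)⁻¹ = z := by
      calc (a * q) * (x * z) * (a * q)⁻¹
          = ((a * q) * x * (a * q)⁻¹) * ((a * q) * z * (a * q)⁻¹) := by group
        _ = (x * z) * x := by rw [hτx, hτz]
        _ = z * (x * x) := by rw [hxz]; group
        _ = z := by rw [hX.x_sq, mul_one]
    refine mem_of_inner hX z fun p hp => ?_
    have hp' := (hconj _ hτz p).1 hp
    set τ := a * q
    have hr := hZ.comm (x * z) (mul_mem hxZ hZ.x_mem) _ hp'
    have hmap : ∀ u : G, τ * (x * z * u * (x * z)⁻¹) * τ⁻¹ = z * (τ * u * τ⁻¹) * z⁻¹ := by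
      intro u
      calc τ * (x * z * u * (x * z)⁻¹) * τ⁻¹
          = (τ * (x * z) * τ⁻¹) * (τ * u * τ⁻¹) * (τ * (x * z) * τ⁻¹)⁻¹ := by group
        _ = _ := by rw [hτxz]
    rcases hr with e | e
    · left
      have := hmap (τ⁻¹ * p * τ)
      rw [e] at this
      simpa [mul_assoc] using this.symm
    · right
      have := hmap (τ⁻¹ * p * τ)
      rw [e] at this
      calc z * p * z⁻¹ = z * (τ * (τ⁻¹ * p * τ) * τ⁻¹) * z⁻¹ := by group
        _ = τ * (τ⁻¹ * p * τ * z) * τ⁻¹ := this.symm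
        _ = p * (τ * z * τ⁻¹) := by group
        _ = p * x := by rw [hτz]
  · push Not at hq
    by_contra hzX
    -- elements of X moving z only modulo x fix z
    have hB : ∀ q ∈ X, z * q * z⁻¹ = q ∨ z * q * z⁻¹ = q * x → z * q = q * z := by
      rintro q hqX (e | e)
      · exact conj_eq_iff_comm.1 e
      · exfalso
        apply hq q hqX
        have : z * q = q * x * z := mul_inv_eq_iff_eq_mul.1 e
        have h1 : q * x * z = q * (z * x) := by rw [mul_assoc, hxz]
        rw [h1] at this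
        -- this : z * q = q * (z * x)
        have h2 : q * (z * x) * q⁻¹ = z := by rw [← this]; group
        calc q * z * q⁻¹ = (q * (z * x) * q⁻¹) * (q * x * q⁻¹)⁻¹ := by group
          _ = z * x⁻¹ := by rw [h2, hX.le_cent q hqX]; group
          _ = z * x := by rw [inv_eq_of_mul_eq_one_right hX.x_sq]
    -- Z ∩ C(x) ∩ X is contained in ⟨x⟩
    have hAX : ∀ d ∈ Z, d ∈ X → d * x = x * d → d = 1 ∨ d = x := by
      intro d hdZ hdX hdx
      let S : Subgroup G := extend hZ (Subgroup.zpowers z)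
        (Subgroup.zpowers_le.2 hZ.x_mem) (Subgroup.mem_zpowers z) x hxZ
      by_cases hdS : d ∈ S
      · have hzp : ∀ u ∈ Subgroup.zpowers z, u = 1 ∨ u = z := by
          intro u hu
          obtain ⟨i, rfl⟩ := Subgroup.mem_zpowers_iff.1 hu
          rcases Int.even_or_odd i with ⟨j, rfl⟩ | ⟨j, rfl⟩
          · left; rw [← two_mul, zpow_mul, zpow_two, hZ.x_sq, one_zpow]
          · right; rw [zpow_add, zpow_mul, zpow_two, hZ.x_sq, one_zpow, one_mul, zpow_one]
        rcases hdS with hd | hd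
        · rcases hzp _ hd with e | e
          · exact Or.inl e
          · exact absurd (e ▸ hdX) hzX
        · rcases hzp _ hd with e | e
          · exact Or.inr (inv_mul_eq_one.1 e).symm
          · have : x⁻¹ * d ∈ X := mul_mem (inv_mem hX.x_mem) hdX
            exact absurd (e ▸ this) hzX
      · exfalso
        obtain ⟨p, hp, hpS, hpd⟩ := exists_separating hZ S (extend_le _ _ _ _ _ _)
          (Or.inl (Subgroup.mem_zpowers z)) hdZ hdS
        have hpx : p * x = x * p := hpS x (self_mem_extend _ _ _ _ _ _)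
        have h1 := hX.norm p hpx d hdX
        rw [hpd] at h1
        exact hzX (by simpa using mul_mem (inv_mem hdX) h1)
    have hmix : ∀ a ∈ Z, a * x = x * a → ∀ b ∈ X, b * z = z * b →
        a * b * a⁻¹ = b ∨ a * b * a⁻¹ = b * x := by
      intro a ha hax b hb hbz
      have h1 : a * b * a⁻¹ * b⁻¹ ∈ X := mul_mem (hX.norm a hax b hb) (inv_mem hb)
      have h2 : a * b * a⁻¹ * b⁻¹ ∈ Z := by
        have := mul_mem ha (hZ.norm b hbz _ (inv_mem ha))
        simpa [mul_assoc] using this
      rcases hAX _ h2 h1 (hX.le_cent _ h1) with e | e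
      · left; exact mul_inv_eq_one.1 e
      · right; rw [hX.le_cent b hb]; exact mul_inv_eq_iff_eq_mul.1 e
    have bil : ∀ u ∈ X, ∀ v ∈ X, ∀ w ∈ X, u * w * u⁻¹ = v * w * v⁻¹ →
        (u⁻¹ * v) * w = w * (u⁻¹ * v) := by
      intro u _ v _ w _ e
      rw [← conj_eq_iff_comm]
      calc u⁻¹ * v * w * (u⁻¹ * v)⁻¹ = u⁻¹ * (v * w * v⁻¹) * u := by group
        _ = w := by rw [← e]; group
    -- the part of Z centralizing x moves X only into C(z)
    have hmove : ∀ a ∈ Z, a * x = x * a → ∀ q ∈ X,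
        q⁻¹ * (a * q * a⁻¹) ∈ X ∧ (q⁻¹ * (a * q * a⁻¹)) * z = z * (q⁻¹ * (a * q * a⁻¹)) := by
      intro a ha hax q hqX
      have hp : a * q * a⁻¹ ∈ X := hX.norm a hax q hqX
      set c := q⁻¹ * (a * q * a⁻¹)
      have hc : c ∈ X := mul_mem (inv_mem hqX) hp
      refine ⟨hc, ?_⟩
      have hcB : ∀ b ∈ X, b * z = z * b → c * b = b * c := by
        intro b hb hbz
        refine bil q hqX _ hp b hb ?_
        obtain ⟨ε, hε, hbε⟩ : ∃ ε : G, (ε = 1 ∨ ε = x) ∧ a * b * a⁻¹ = b * ε := by
          rcases hmix a ha hax b hb hbz with e | e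
          · exact ⟨1, Or.inl rfl, by rw [e, mul_one]⟩
          · exact ⟨x, Or.inr rfl, e⟩
        obtain ⟨δ, hδ, hbδ⟩ : ∃ δ : G, (δ = 1 ∨ δ = x) ∧ q * b * q⁻¹ = b * δ := by
          rcases hX.comm q hqX b hb with e | e
          · exact ⟨1, Or.inl rfl, by rw [e, mul_one]⟩
          · exact ⟨x, Or.inr rfl, e⟩
        have hpε : Commute (a * q * a⁻¹) ε := by
          rcases hε with rfl | rfl
          · exact Commute.one_right _
          · exact hX.le_cent _ hp
        have haδ : Commute a δ := by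
          rcases hδ with rfl | rfl
          · exact Commute.one_right _
          · exact hax
        have hεδ : Commute ε δ := by
          rcases hδ with rfl | rfl
          · exact Commute.one_right _
          · rcases hε with rfl | rfl
            · exact Commute.one_left _
            · exact Commute.refl _
        rw [hbδ]
        calc b * δ = b * (ε * δ) * ε⁻¹ := by rw [hεδ.eq]; group
          _ = (a * b * a⁻¹) * (a * δ * a⁻¹) * ε⁻¹ := by
              rw [hbε, conj_eq_iff_comm.2 haδ.eq]; group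
          _ = a * (q * b * q⁻¹) * a⁻¹ * ε⁻¹ := by rw [hbδ]; group
          _ = (a * q * a⁻¹) * (a * b * a⁻¹) * (a * q * a⁻¹)⁻¹ * ε⁻¹ := by group
          _ = (a * q * a⁻¹) * b * (ε * (a * q * a⁻¹)⁻¹) * ε⁻¹ := by rw [hbε]; group
          _ = (a * q * a⁻¹) * b * ((a * q * a⁻¹)⁻¹ * ε) * ε⁻¹ := by
              rw [(Commute.inv_left hpε).eq]
          _ = _ := by group
      -- hence [c, z] is central in X
      have hzc : z * c * z⁻¹ ∈ X := hX.norm z hxz.symm c hc
      have hd : c⁻¹ * (z * c * z⁻¹) = 1 ∨ c⁻¹ * (z * c * z⁻¹) = x := by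
        refine hX.centre _ (mul_mem (inv_mem hc) hzc) fun r hr => ?_
        have hzi : z⁻¹ = z := inv_eq_of_mul_eq_one_right hZ.x_sq
        have hr' : z * r * z⁻¹ ∈ X := hX.norm z hxz.symm r hr
        refine bil c hc _ hzc r hr ?_
        -- write r = z r' z⁻¹
        obtain ⟨r', hr'def⟩ : ∃ r', r' = z * r * z⁻¹ := ⟨_, rfl⟩
        have hr'X : r' ∈ X := hr'def ▸ hr'
        set s := r⁻¹ * r' with hsdef
        have hsX : s ∈ X := mul_mem (inv_mem hr) hr'X
        have hs1 : z * s * z⁻¹ = s⁻¹ := by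
          rw [hsdef, hr'def]
          calc z * (r⁻¹ * (z * r * z⁻¹)) * z⁻¹
              = (z * r * z⁻¹)⁻¹ * ((z * z) * r * (z * z)⁻¹) := by group
            _ = _ := by rw [hZ.x_sq]; group
        have hs2 : z * s = s * z := by
          refine hB s hsX ?_
          rw [hs1]
          rcases hX.sq_cases hsX with e | e
          · left; exact inv_eq_of_mul_eq_one_right e
          · right
            rw [inv_eq_iff_mul_eq_one, ← mul_assoc, e, hX.x_sq]
        have hcs : c * s = s * c := hcB s hsX hs2.symm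
        have hcr : c * r * c⁻¹ * r⁻¹ = c * r' * c⁻¹ * r'⁻¹ := by
          have hr'e : r' = r * s := by rw [hsdef]; group
          rw [hr'e]
          calc c * r * c⁻¹ * r⁻¹ = c * r * c⁻¹ * (s * s⁻¹) * r⁻¹ := by group
            _ = c * r * ((c⁻¹ * s) * s⁻¹) * r⁻¹ := by group
            _ = c * r * ((s * c⁻¹) * s⁻¹) * r⁻¹ := by
              rw [((Commute.inv_left (hcs : Commute c s))).eq]
            _ = _ := by group
        have hfix : z * (c * r * c⁻¹ * r⁻¹) * z⁻¹ = c * r * c⁻¹ * r⁻¹ := by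
          rcases hX.comm c hc r hr with e | e
          · rw [e]; group
          · rw [e, hX.le_cent r hr]
            calc z * (x * r * r⁻¹) * z⁻¹ = (z * x) * z⁻¹ := by group
              _ = x * r * r⁻¹ := by rw [← hxz]; group
        have hrr : z * r' * z⁻¹ = r := by
          rw [hr'def]
          calc z * (z * r * z⁻¹) * z⁻¹ = (z * z) * r * (z * z)⁻¹ := by group
            _ = r := by rw [hZ.x_sq]; group
        have : z * c * z⁻¹ * r * (z * c * z⁻¹)⁻¹ * r⁻¹ = c * r * c⁻¹ * r⁻¹ := by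
          calc z * c * z⁻¹ * r * (z * c * z⁻¹)⁻¹ * r⁻¹
              = z * c * z⁻¹ * (z * r' * z⁻¹) * (z * c * z⁻¹)⁻¹ * (z * r' * z⁻¹)⁻¹ := by rw [hrr]
            _ = z * (c * r' * c⁻¹ * r'⁻¹) * z⁻¹ := by group
            _ = _ := by rw [← hcr, hfix]
        exact (mul_right_cancel this).symm
      refine (hB c hc ?_).symm
      rcases hd with e | e
      · left; rw [inv_mul_eq_one] at e; exact e.symm
      · right; rw [inv_mul_eq_iff_eq_mul] at e; exact e
    by_cases hA : ∃ a₁ ∈ Z, ∃ a₂ ∈ Z, a₁ * x = x * a₁ ∧ a₂ * x = x * a₂ ∧ a₁ * a₂ ≠ a₂ * a₁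
    · obtain ⟨a₁, h₁, a₂, h₂, h₁x, h₂x, h12⟩ := hA
      have hcomm : a₁ * a₂ * a₁⁻¹ * a₂⁻¹ = z := by
        rcases hZ.comm a₁ h₁ a₂ h₂ with e | e
        · exact absurd (conj_eq_iff_comm.1 e) h12
        · rw [e, hZ.le_cent a₂ h₂]; group
      refine hzX (mem_of_inner hX z fun q hqX => ?_)
      obtain ⟨hc1, hc1z⟩ := hmove a₁ h₁ h₁x q hqX
      obtain ⟨hc2, hc2z⟩ := hmove a₂ h₂ h₂x q hqX
      set c₁ := q⁻¹ * (a₁ * q * a₁⁻¹) with hc₁def
      set c₂ := q⁻¹ * (a₂ * q * a₂⁻¹) with hc₂def
      have k1 : ∀ a ∈ Z, a * x = x * a → ∀ c ∈ X, c * z = z * c →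
          ∃ e : G, (e = 1 ∨ e = x) ∧ a * c * a⁻¹ = c * e := by
        intro a ha hax c hc hcz
        rcases hmix a ha hax c hc hcz with e | e
        · exact ⟨1, Or.inl rfl, by rw [e, mul_one]⟩
        · exact ⟨x, Or.inr rfl, e⟩
      obtain ⟨e₁, he₁, hE₁⟩ := k1 a₁ h₁ h₁x c₂ hc2 hc2z
      obtain ⟨e₂, he₂, hE₂⟩ := k1 a₂ h₂ h₂x c₁ hc1 hc1z
      have hA12 : a₁ * a₂ * q * (a₁ * a₂)⁻¹ = q * c₁ * c₂ * e₁ := by
        calc a₁ * a₂ * q * (a₁ * a₂)⁻¹ = a₁ * q * a₁⁻¹ * (a₁ * c₂ * a₁⁻¹) := by
              rw [hc₂def]; group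
          _ = _ := by rw [hE₁, hc₁def]; group
      have hA21 : a₂ * a₁ * q * (a₂ * a₁)⁻¹ = q * c₂ * c₁ * e₂ := by
        calc a₂ * a₁ * q * (a₂ * a₁)⁻¹ = a₂ * q * a₂⁻¹ * (a₂ * c₁ * a₂⁻¹) := by
              rw [hc₁def]; group
          _ = _ := by rw [hE₂, hc₂def]; group
      have hz12 : z * (a₂ * a₁) = a₁ * a₂ := by rw [← hcomm]; group
      obtain ⟨δ, hδ, hδe⟩ : ∃ δ : G, (δ = 1 ∨ δ = x) ∧
          q * c₁ * c₂ * e₁ = q * c₂ * c₁ * e₂ * δ := by
        have hxi : x⁻¹ = x := inv_eq_of_mul_eq_one_right hX.x_sq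
        refine ⟨(q * c₂ * c₁ * e₂)⁻¹ * (q * c₁ * c₂ * e₁), ?_, by group⟩
        have hd : (q * c₂ * c₁ * e₂)⁻¹ * (q * c₁ * c₂ * e₁)
            = e₂⁻¹ * (c₁⁻¹ * (c₂⁻¹ * c₁ * c₂⁻¹⁻¹)) * e₁ := by group
        rw [hd]
        rcases hX.comm c₂⁻¹ (inv_mem hc2) c₁ hc1 with e | e <;> rw [e] <;>
          rcases he₁ with rfl | rfl <;> rcases he₂ with rfl | rfl <;>
          simp [hxi, hX.x_sq]
      have hu : a₂ * a₁ * q * (a₂ * a₁)⁻¹ ∈ X := by
        refine hX.norm _ ?_ q hqX
        exact (Commute.mul_left (h₂x : Commute a₂ x) h₁x).eq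
      have hzu : z * (a₂ * a₁ * q * (a₂ * a₁)⁻¹) * z⁻¹
          = a₂ * a₁ * q * (a₂ * a₁)⁻¹ * δ := by
        rw [hA21, ← hδe, ← hA12, ← hz12, ← hA21]; group
      -- pull back along a₂ a₁, which commutes with z and x
      have hbz : (a₂ * a₁) * z = z * (a₂ * a₁) :=
        (Commute.mul_left (hZ.le_cent a₂ h₂ : Commute a₂ z) (hZ.le_cent a₁ h₁)).eq
      have hbx : (a₂ * a₁) * x = x * (a₂ * a₁) := (Commute.mul_left (h₂x : Commute a₂ x) h₁x).eq
      set β := a₂ * a₁
      have hδc : β⁻¹ * δ * β = δ := by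
        rcases hδ with rfl | rfl
        · group
        · rw [mul_assoc, ← hbx]; group
      have hzq : z * q * z⁻¹ = q * δ := by
        calc z * q * z⁻¹ = (β⁻¹ * (β * z)) * q * z⁻¹ := by group
          _ = β⁻¹ * (z * (β * q * β⁻¹)) * (β * z⁻¹) := by rw [hbz]; group
          _ = β⁻¹ * (z * (β * q * β⁻¹)) * (z⁻¹ * β) := by
              rw [(Commute.inv_right (hbz : Commute β z)).eq]
          _ = β⁻¹ * (z * (β * q * β⁻¹) * z⁻¹) * β := by group
          _ = q * (β⁻¹ * δ * β) := by rw [hzu]; group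
          _ = q * δ := by rw [hδc]
      rcases hδ with rfl | rfl
      · left; rw [hzq, mul_one]
      · right; exact hzq
    · push Not at hA
      -- Z ∩ C(x) abelian: the case of groups of order 8
      obtain ⟨w, hwX, hwS, hwz⟩ : ∃ w ∈ X, w ∉ Subgroup.zpowers x ∧ w * z = z * w := by
        obtain ⟨u, hu, v, hv, huv⟩ := hX.nonab
        have huS : u ∉ Subgroup.zpowers x := by
          intro hh
          obtain ⟨i, rfl⟩ := Subgroup.mem_zpowers_iff.1 hh
          exact huv ((Commute.zpow_left (hX.le_cent v hv : Commute v x).symm i)).eq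
        by_cases hzu : z * u * z⁻¹ = u ∨ z * u * z⁻¹ = u * x
        · exact ⟨u, hu, huS, (hB u hu hzu).symm⟩
        have hu' : z * u * z⁻¹ ∈ X := hX.norm z hxz.symm u hu
        set s := u⁻¹ * (z * u * z⁻¹) with hsdef
        have hsX : s ∈ X := mul_mem (inv_mem hu) hu'
        refine ⟨s, hsX, ?_, ?_⟩
        · intro hh
          obtain ⟨i, hi⟩ := Subgroup.mem_zpowers_iff.1 hh
          rcases Int.even_or_odd i with ⟨j, rfl⟩ | ⟨j, rfl⟩
          · apply hzu; left
            rw [← two_mul, zpow_mul, zpow_two, hX.x_sq, one_zpow] at hi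
            rw [hsdef] at hi
            exact (inv_mul_eq_one.1 hi.symm).symm
          · apply hzu; right
            rw [zpow_add, zpow_mul, zpow_two, hX.x_sq, one_zpow, one_mul, zpow_one] at hi
            rw [hsdef] at hi
            exact inv_mul_eq_iff_eq_mul.1 hi.symm
        · have hs1 : z * s * z⁻¹ = s⁻¹ := by
            rw [hsdef]
            calc z * (u⁻¹ * (z * u * z⁻¹)) * z⁻¹
                = (z * u * z⁻¹)⁻¹ * ((z * z) * u * (z * z)⁻¹) := by group
              _ = _ := by rw [hZ.x_sq]; group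
          refine (hB s hsX ?_).symm
          rw [hs1]
          rcases hX.sq_cases hsX with e | e
          · left; exact inv_eq_of_mul_eq_one_right e
          · right; rw [inv_eq_iff_mul_eq_one, ← mul_assoc, e, hX.x_sq]
      have hwx : w * x = x * w := hX.le_cent w hwX
      -- w induces an inner automorphism on Z
      have hwZ : w ∈ Z := by
        refine mem_of_inner hZ w fun q hq => ?_
        let S : Subgroup G := extend hZ (Subgroup.zpowers z)
          (Subgroup.zpowers_le.2 hZ.x_mem) (Subgroup.mem_zpowers z) x hxZ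
        have hwS' : ∀ d ∈ S, w * d = d * w := by
          have hzp : ∀ u ∈ Subgroup.zpowers z, w * u = u * w := by
            intro u hu
            obtain ⟨i, rfl⟩ := Subgroup.mem_zpowers_iff.1 hu
            exact (Commute.zpow_right hwz i).eq
          rintro d (hd | hd)
          · exact hzp d hd
          · have := Commute.mul_right (hwx : Commute w x) (hzp _ hd)
            rwa [mul_inv_cancel_left] at this
        -- Z ∩ C(x) = S
        have hAS : ∀ d ∈ Z, d * x = x * d → d ∈ S := by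
          intro d hd hdx
          by_contra hdS
          obtain ⟨p, hp, hpS, hpd⟩ := exists_separating hZ S (extend_le _ _ _ _ _ _)
            (Or.inl (Subgroup.mem_zpowers z)) hd hdS
          have h1 := hA p hp d hd (hpS x (self_mem_extend _ _ _ _ _ _)) hdx
          have : d * z = d := by rw [← hpd]; exact conj_eq_iff_comm.2 h1
          exact hZ.x_ne (by simpa using this)
        by_cases hqx : q * x = x * q
        · left; exact conj_eq_iff_comm.2 (hwS' q (hAS q hq hqx))
        have hqx' : q * x * q⁻¹ = x * z :=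
          (hZ.comm q hq x hxZ).resolve_left (fun e => hqx (conj_eq_iff_comm.1 e))
        have hwq : w * q * w⁻¹ ∈ Z := hZ.norm w hwz q hq
        have hr : q⁻¹ * (w * q * w⁻¹) ∈ S := by
          refine hAS _ (mul_mem (inv_mem hq) hwq) ?_
          rw [← conj_eq_iff_comm]
          calc q⁻¹ * (w * q * w⁻¹) * x * (q⁻¹ * (w * q * w⁻¹))⁻¹
              = q⁻¹ * w * (q * ((w⁻¹ * x) * w) * q⁻¹) * w⁻¹ * q := by group
            _ = q⁻¹ * w * (q * ((x * w⁻¹) * w) * q⁻¹) * w⁻¹ * q := by
              rw [(Commute.inv_left (hwx : Commute w x)).eq]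
            _ = q⁻¹ * w * (q * x * q⁻¹) * w⁻¹ * q := by group
            _ = q⁻¹ * ((w * (x * z)) * w⁻¹) * q := by rw [hqx']; group
            _ = q⁻¹ * (x * z) * q := by
              rw [(Commute.mul_right (hwx : Commute w x) (hwz : Commute w z)).eq]; group
            _ = x := by rw [← hqx']; group
        have hsq : (w * q * w⁻¹) * (w * q * w⁻¹) = q * q := by
          rcases hZ.sq_cases hq with e | e
          · rw [e]
            calc w * q * w⁻¹ * (w * q * w⁻¹) = w * (q * q) * w⁻¹ := by group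
              _ = 1 := by rw [e]; group
          · rw [e]
            calc w * q * w⁻¹ * (w * q * w⁻¹) = w * (q * q) * w⁻¹ := by group
              _ = z := by rw [e, hwz]; group
        set r := q⁻¹ * (w * q * w⁻¹) with hrdef
        have hwqr : w * q * w⁻¹ = q * r := by rw [hrdef]; group
        have hzp : ∀ u ∈ Subgroup.zpowers z, u = 1 ∨ u = z :=
          fun u hu => eq_or_of_mem_zpowers hZ.x_sq hu
        rcases hr with hr | hr
        · rcases hzp _ hr with e | e
          · left; rw [hwqr, e, mul_one]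
          · right; rw [hwqr, e]
        · exfalso
          -- r ∈ x⟨z⟩ squares wrongly
          have hqz : q * z = z * q := hZ.le_cent q hq
          rw [hwqr] at hsq
          obtain ⟨e, he, hre⟩ : ∃ e : G, (e = 1 ∨ e = z) ∧ r = x * e :=
            ⟨_, hzp _ hr, (mul_inv_cancel_left x r).symm⟩
          have hex : e * x = x * e := by rcases he with rfl | rfl <;> simp [hxz]
          have heq : e * q = q * e := by rcases he with rfl | rfl <;> simp [hqz]
          have hee : e * e = 1 := by rcases he with rfl | rfl <;> simp [hZ.x_sq]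
          rw [hre] at hsq
          have h3 : q * (x * e) * (q * (x * e)) = (q * x * q⁻¹) * (q * q) * x := by
            calc q * (x * e) * (q * (x * e)) = q * x * ((e * q) * x) * e := by group
              _ = q * x * q * (e * x) * e := by rw [heq]; group
              _ = q * x * q * x * (e * e) := by rw [hex]; group
              _ = _ := by rw [hee]; group
          rw [h3, hqx'] at hsq
          apply hZ.x_ne
          rcases hZ.sq_cases hq with e' | e' <;> rw [e'] at hsq
          · rw [mul_one, hxz, mul_assoc, hX.x_sq, mul_one] at hsq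
            exact hsq
          · rw [mul_assoc x z, hZ.x_sq, mul_one, hX.x_sq] at hsq
            exact hsq.symm
      exact hwS (by
        rcases hAX w hwZ hwX hwx with rfl | rfl
        · exact Subgroup.one_mem _
        · exact Subgroup.mem_zpowers _)

end Cfsg.Agent.Lib.LargeExtra
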