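import Mathlib
import Cfsg.Prelude.Def_Transfer
import Cfsg.Prelude.Def_Solvable
import Cfsg.Agent.Lib.LargeExtra.Basic

/-!
The setting "`Q x = O₂(C(x))`, `Q z` extraspecial and self-centralizing": `Good` at every conjugate
of `z`, and singular subgroups.
-/

set_option autoImplicit false

namespace Cfsg.Agent.Lib.LargeExtra

open scoped commutatorElement

variable {G : Type*} [Group G]

/-- `Q` assigns to each element the 2-core of its centralizer. -/
def IsCoreMap (Q : G → Subgroup G) : Prop :=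
  ∀ x : G, Q x = (Cfsg.pCore 2 ↥(Subgroup.centralizer ({x} : Set G))).map
    (Subgroup.centralizer ({x} : Set G)).subtype

variable {Q : G → Subgroup G}

theorem IsCoreMap.le_centralizer (hQ : IsCoreMap Q) {x q : G} (hq : q ∈ Q x) : q * x = x * q := by
  rw [hQ x] at hq
  obtain ⟨c, -, rfl⟩ := hq
  exact Subgroup.mem_centralizer_singleton_iff.1 c.2

theorem IsCoreMap.normalized (hQ : IsCoreMap Q) {x g q : G} (hg : g * x = x * g) (hq : q ∈ Q x) :
    g * q * g⁻¹ ∈ Q x := by
  rw [hQ x] at hq ⊢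
  obtain ⟨c, hc, rfl⟩ := hq
  have : (Cfsg.pCore 2 ↥(Subgroup.centralizer ({x} : Set G))).Normal :=
    @Subgroup.normal_of_characteristic _ _ _ (Cfsg.Agent.Lib.PSolvable.pCore_characteristic)
  exact ⟨_, this.conj_mem c hc ⟨g, Subgroup.mem_centralizer_singleton_iff.2 hg⟩, rfl⟩

theorem IsCoreMap.isPGroup (hQ : IsCoreMap Q) (x : G) : IsPGroup 2 ↥(Q x) := by
  rw [hQ x]
  exact (Cfsg.Agent.Lib.PSolvable.pCore_isPGroup).map _

theorem IsCoreMap.le_of (hQ : IsCoreMap Q) {x : G} {P : Subgroup G} (hP : IsPGroup 2 ↥P)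
    (hc : ∀ q ∈ P, q * x = x * q) (hn : ∀ g, g * x = x * g → ∀ q ∈ P, g * q * g⁻¹ ∈ P) :
    P ≤ Q x := by
  intro q hq
  rw [hQ x]
  have hle : P ≤ Subgroup.centralizer ({x} : Set G) :=
    fun a ha => Subgroup.mem_centralizer_singleton_iff.2 (hc a ha)
  have : (P.subgroupOf (Subgroup.centralizer ({x} : Set G))).Normal :=
    ⟨fun a ha g => Subgroup.mem_subgroupOf.2
      (hn g (Subgroup.mem_centralizer_singleton_iff.1 g.2) a (Subgroup.mem_subgroupOf.1 ha))⟩
  have hP' : IsPGroup 2 ↥(P.subgroupOf (Subgroup.centralizer ({x} : Set G))) :=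
    hP.comap_of_injective _ (Subgroup.subtype_injective _)
  exact ⟨⟨q, hle hq⟩, Cfsg.Agent.Lib.PSolvable.le_pCore hP' (Subgroup.mem_subgroupOf.2 hq), rfl⟩

theorem IsCoreMap.conj_mem (hQ : IsCoreMap Q) (g : G) {x q : G} (hq : q ∈ Q x) :
    g * q * g⁻¹ ∈ Q (g * x * g⁻¹) := by
  refine hQ.le_of (P := (Q x).map (MulAut.conj g).toMonoidHom) ((hQ.isPGroup x).map _) ?_ ?_
    ⟨q, hq, rfl⟩
  · rintro _ ⟨a, ha, rfl⟩
    have := hQ.le_centralizer ha
    simp only [MulEquiv.coe_toMonoidHom, MulAut.conj_apply]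
    calc g * a * g⁻¹ * (g * x * g⁻¹) = g * (a * x) * g⁻¹ := by group
      _ = g * (x * a) * g⁻¹ := by rw [this]
      _ = _ := by group
  · rintro h hh _ ⟨a, ha, rfl⟩
    have hh' : g⁻¹ * h * g * x = x * (g⁻¹ * h * g) := by
      calc g⁻¹ * h * g * x = g⁻¹ * (h * (g * x * g⁻¹)) * g := by group
        _ = _ := by rw [hh]; group
    refine ⟨_, hQ.normalized hh' ha, ?_⟩
    simp only [MulEquiv.coe_toMonoidHom, MulAut.conj_apply]
    group

/-- All conjugates of `z` are `Good`. -/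
theorem IsCoreMap.good_conj [Finite G] (hQ : IsCoreMap Q) {z : G} (hz : orderOf z = 2)
    (hE : Cfsg.IsExtraspecial 2 ↥(Q z))
    (hC : Subgroup.centralizer ((Q z : Subgroup G) : Set G) ≤ Q z) (g : G) :
    Good (Q (g * z * g⁻¹)) (g * z * g⁻¹) := by
  have hzz : z * z = 1 := by rw [← pow_two, ← hz]; exact pow_orderOf_eq_one z
  have hz1 : z ≠ 1 := by rintro rfl; simp at hz
  obtain ⟨⟨-, -, hcomm⟩, hcard⟩ := hE
  have hzmem : z ∈ Q z := hC (Subgroup.mem_centralizer_iff.2 fun q hq => hQ.le_centralizer hq)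
  have hcen : ∀ a, a ∈ Subgroup.center ↥(Q z) → (a : G) = 1 ∨ (a : G) = z := by
    intro a ha
    have hzc : (⟨z, hzmem⟩ : Q z) ∈ Subgroup.center ↥(Q z) :=
      Subgroup.mem_center_iff.2 fun b => Subtype.ext (hQ.le_centralizer b.2)
    obtain ⟨c, -, hall⟩ := (Nat.card_eq_two_iff' (1 : Subgroup.center ↥(Q z))).1 hcard
    by_cases h1 : (⟨a, ha⟩ : Subgroup.center ↥(Q z)) = 1
    · left
      exact congrArg (fun w : Subgroup.center ↥(Q z) => ((w : Q z) : G)) h1
    · right
      have h2 : (⟨_, hzc⟩ : Subgroup.center ↥(Q z)) ≠ 1 :=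
        fun e => hz1 (congrArg (fun w : Subgroup.center ↥(Q z) => ((w : Q z) : G)) e)
      exact congrArg (fun w : Subgroup.center ↥(Q z) => ((w : Q z) : G))
        ((hall _ h1).trans (hall _ h2).symm)
  have base : Good (Q z) z := {
    x_mem := hzmem
    x_sq := hzz
    x_ne := hz1
    le_cent := fun q hq => hQ.le_centralizer hq
    comm := by
      intro a ha b hb
      have hm : ⁅(⟨a, ha⟩ : Q z), (⟨b, hb⟩ : Q z)⁆ ∈ Subgroup.center ↥(Q z) := by
        rw [← hcomm]
        exact Subgroup.commutator_mem_commutator (Subgroup.mem_top _) (Subgroup.mem_top _)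
      have hcoe : ((⁅(⟨a, ha⟩ : Q z), (⟨b, hb⟩ : Q z)⁆ : Q z) : G) = a * b * a⁻¹ * b⁻¹ := rfl
      rcases hcen _ hm with e | e <;> rw [hcoe] at e
      · left; exact mul_inv_eq_one.1 e
      · right; rw [hQ.le_centralizer hb]; exact mul_inv_eq_iff_eq_mul.1 e
    centre := fun a ha hall =>
      hcen ⟨a, ha⟩ (Subgroup.mem_center_iff.2 fun b => Subtype.ext (hall b b.2).symm)
    nonab := by
      by_contra hne
      push Not at hne
      have h1 : commutator ↥(Q z) = ⊥ := by
        rw [commutator_def, Subgroup.commutator_eq_bot_iff_le_centralizer]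
        exact fun a _ => Subgroup.mem_centralizer_iff.2 fun b _ => Subtype.ext (hne b b.2 a a.2)
      rw [← hcomm, h1, Subgroup.card_bot] at hcard
      exact absurd hcard (by norm_num)
    norm := fun h hh q hq => hQ.normalized hh hq
    cent := fun h hh => hC (Subgroup.mem_centralizer_iff.2 fun q hq => (hh q hq).symm) }
  -- transport by conjugation
  have back : ∀ {q : G}, q ∈ Q (g * z * g⁻¹) → g⁻¹ * q * g ∈ Q z := by
    intro q hq
    have := hQ.conj_mem g⁻¹ hq
    simpa [mul_assoc] using this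
  have fwd : ∀ {q : G}, q ∈ Q z → g * q * g⁻¹ ∈ Q (g * z * g⁻¹) := fun hq => hQ.conj_mem g hq
  constructor
  · exact fwd base.x_mem
  · calc g * z * g⁻¹ * (g * z * g⁻¹) = g * (z * z) * g⁻¹ := by group
      _ = 1 := by rw [hzz]; group
  · simpa using base.x_ne
  · exact fun q hq => hQ.le_centralizer hq
  · intro a ha b hb
    rcases base.comm _ (back ha) _ (back hb) with e | e
    · left
      calc a * b * a⁻¹ = g * (g⁻¹ * a * g * (g⁻¹ * b * g) * (g⁻¹ * a * g)⁻¹) * g⁻¹ := by group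
        _ = b := by rw [e]; group
    · right
      calc a * b * a⁻¹ = g * (g⁻¹ * a * g * (g⁻¹ * b * g) * (g⁻¹ * a * g)⁻¹) * g⁻¹ := by group
        _ = _ := by rw [e]; group
  · intro a ha hall
    have := base.centre _ (back ha) fun b hb => by
      have h := hall _ (fwd hb)
      calc g⁻¹ * a * g * b = g⁻¹ * (a * (g * b * g⁻¹)) * g := by group
        _ = _ := by rw [h]; group
    rcases this with e | e
    · left
      calc a = g * (g⁻¹ * a * g) * g⁻¹ := by group
        _ = 1 := by rw [e]; group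
    · right
      calc a = g * (g⁻¹ * a * g) * g⁻¹ := by group
        _ = _ := by rw [e]
  · obtain ⟨a, ha, b, hb, hne⟩ := base.nonab
    refine ⟨_, fwd ha, _, fwd hb, fun e => hne ?_⟩
    calc a * b = g⁻¹ * (g * a * g⁻¹ * (g * b * g⁻¹)) * g := by group
      _ = b * a := by rw [e]; group
  · exact fun h hh q hq => hQ.normalized hh hq
  · intro h hh
    have := fwd (base.cent (g⁻¹ * h * g) fun q hq => by
      have hq' := hh _ (fwd hq)
      calc g⁻¹ * h * g * q = g⁻¹ * (h * (g * q * g⁻¹)) * g := by group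
        _ = _ := by rw [hq']; group)
    simpa [mul_assoc] using this

/-- Symmetry of orthogonality, at an arbitrary pair of conjugates. -/
theorem IsCoreMap.orth_symm [Finite G] (hQ : IsCoreMap Q) {x y : G} (hx : Good (Q x) x)
    (hy : Good (Q y) y) (hxy : x ∈ Q y) : y ∈ Q x := by
  refine symm hx hy (fun τ hτ q => ⟨fun h => ?_, fun h => ?_⟩) hxy
  · have := hQ.conj_mem τ⁻¹ h
    rw [← hτ] at this
    simpa [mul_assoc] using this
  · have := hQ.conj_mem τ h
    rw [hτ] at this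
    simpa [mul_assoc] using this

/-- For orthogonal `x ≠ y`, some element of `Q x` maps `y` to `y * x`. -/
theorem Good.exists_move [Finite G] {X : Subgroup G} {x y : G} (hx : Good X x) (hy : y ∈ X)
    (hy1 : y ≠ 1) (hyx : y ≠ x) : ∃ q ∈ X, q * y * q⁻¹ = y * x := by
  obtain ⟨q, hq, -, e⟩ := exists_separating hx (Subgroup.zpowers x)
    (Subgroup.zpowers_le.2 hx.x_mem) (Subgroup.mem_zpowers x) hy
    (fun hh => (eq_or_of_mem_zpowers hx.x_sq hh).elim hy1 hyx)
  exact ⟨q, hq, e⟩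

/-- `Q x ∩ Q y ≤ Q (x y)` for orthogonal `x ≠ y`. -/
theorem IsCoreMap.inf_le_mul [Finite G] (hQ : IsCoreMap Q) {x y : G} (hx : Good (Q x) x)
    (hy : Good (Q y) y) (hyQ : y ∈ Q x) (hxy : x ≠ y) : Q x ⊓ Q y ≤ Q (y * x) := by
  rintro d ⟨hdx, hdy⟩
  obtain ⟨q, hq, e⟩ := hx.exists_move hyQ hy.x_ne (Ne.symm hxy)
  have hxQy : x ∈ Q y := hQ.orth_symm hy hx hyQ
  have hd' : q⁻¹ * d * q ∈ Q y := by
    have := hx.comm q⁻¹ (inv_mem hq) d hdx
    rw [inv_inv] at this
    rcases this with e | e <;> rw [e]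
    exacts [hdy, mul_mem hdy hxQy]
  have := hQ.conj_mem q hd'
  rw [e] at this
  simpa [mul_assoc] using this

end Cfsg.Agent.Lib.LargeExtra
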