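import Mathlib
import Cfsg.Agent.Lib.LargeExtra.Setting

/-!
If `C(z)` fixes a coset `u⟨z⟩` of `O₂(C(z))`, large extraspecial, then no conjugate of `z` in
`O₂(C(z))` fails to commute with `u` (helper60).
-/

set_option autoImplicit false

namespace Cfsg.Agent.Lib.LargeExtra

variable {G : Type*} [Group G] {X : Subgroup G} {x : G}

theorem eq_or_of_mem_extend_zpowers (h : Good X x) {e d : G} (he : e ∈ X)
    (hd : d ∈ extend h (Subgroup.zpowers x) (Subgroup.zpowers_le.2 h.x_mem)
      (Subgroup.mem_zpowers x) e he) :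
    d = 1 ∨ d = x ∨ d = e ∨ d = e * x := by
  rcases hd with hd | hd
  · rcases eq_or_of_mem_zpowers h.x_sq hd with e1 | e1
    · exact Or.inl e1
    · exact Or.inr (Or.inl e1)
  · rcases eq_or_of_mem_zpowers h.x_sq hd with e1 | e1
    · exact Or.inr (Or.inr (Or.inl (inv_mul_eq_one.1 e1).symm))
    · exact Or.inr (Or.inr (Or.inr (by rw [← e1, mul_inv_cancel_left])))

/-- The centre of `C_X(e)` is `{1, x, e, e x}`. -/
theorem mem_four_of_commute [Finite G] (h : Good X x) {e d : G} (he : e ∈ X) (hd : d ∈ X)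
    (hall : ∀ a ∈ X, a * e = e * a → a * d = d * a) :
    d = 1 ∨ d = x ∨ d = e ∨ d = e * x := by
  refine eq_or_of_mem_extend_zpowers h he ?_
  by_contra hdS
  obtain ⟨p, hp, hpS, hpd⟩ :=
    exists_separating h _ (extend_le _ _ _ _ _ _) (Or.inl (Subgroup.mem_zpowers x)) hd hdS
  have h1 := hall p hp (hpS e (self_mem_extend _ _ _ _ _ _))
  rw [h1, mul_inv_cancel_right] at hpd
  exact h.x_ne (by simpa using hpd.symm)

/-- An element of `C(x)` fixing `e`, the coset `u⟨x⟩`, and centralising `C_X(e)` modulo `⟨x⟩` lies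
in `X`. -/
theorem mem_of_fix_coset [Finite G] (h : Good X x) {e u b : G} (he : e ∈ X) (hu : u ∈ X)
    (hue : u * e * u⁻¹ = e * x) (hub : b * u * b⁻¹ = u ∨ b * u * b⁻¹ = u * x)
    (hA : ∀ a ∈ X, a * e = e * a → b * a * b⁻¹ = a ∨ b * a * b⁻¹ = a * x) : b ∈ X := by
  refine mem_of_inner h b fun q hq => ?_
  by_cases hqe : q * e = e * q
  · exact hA q hq hqe
  have hqe' : q * e * q⁻¹ = e * x :=
    (h.comm q hq e he).resolve_left fun e1 => hqe (conj_eq_iff_comm.1 e1)
  have ha : u⁻¹ * q * e = e * (u⁻¹ * q) := by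
    rw [← conj_eq_iff_comm]
    calc u⁻¹ * q * e * (u⁻¹ * q)⁻¹ = u⁻¹ * (q * e * q⁻¹) * u := by group
      _ = u⁻¹ * (u * e * u⁻¹) * u := by rw [hqe', hue]
      _ = e := by group
  have hqmem : u⁻¹ * q ∈ X := mul_mem (inv_mem hu) hq
  have hcx : ∀ w ∈ X, x * w = w * x := fun w hw => (h.le_cent w hw).symm
  have key : b * q * b⁻¹ = (b * u * b⁻¹) * (b * (u⁻¹ * q) * b⁻¹) := by group
  rcases hub with e1 | e1 <;> rcases hA _ hqmem ha with e2 | e2 <;> rw [key, e1, e2]
  · left; group
  · right; group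
  · right
    calc u * x * (u⁻¹ * q) = u * (x * (u⁻¹ * q)) := by group
      _ = u * (u⁻¹ * q * x) := by rw [hcx _ hqmem]
      _ = q * x := by group
  · left
    calc u * x * (u⁻¹ * q * x) = u * (x * (u⁻¹ * q)) * x := by group
      _ = u * (u⁻¹ * q * x) * x := by rw [hcx _ hqmem]
      _ = q * (x * x) := by group
      _ = q := by rw [h.x_sq, mul_one]

variable {Q : G → Subgroup G}

/-- A conjugate of `z` in `O₂(C(z))` commutes with every fixed coset. -/
theorem IsCoreMap.not_isConj_of_fixed_coset [Finite G] (hQ : IsCoreMap Q) {z e u : G}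
    (hX : Good (Q z) z) (hY : Good (Q e) e) (hcard : 8 < Nat.card (Q z))
    (heX : e ∈ Q z) (huX : u ∈ Q z) (hue : u * e * u⁻¹ = e * z)
    (hfix : ∀ h, h * z = z * h → h * u * h⁻¹ = u ∨ h * u * h⁻¹ = u * z)
    (hconj : ∃ g : G, g * z * g⁻¹ = e) : False := by
  classical
  haveI := Fintype.ofFinite G
  have hez : e * z = z * e := hX.le_cent e heX
  have hne : e ≠ z := by
    rintro rfl
    rw [hX.le_cent u huX, mul_inv_cancel_right, hX.x_sq] at hue
    exact hX.x_ne hue
  have hzY : z ∈ Q e := hQ.orth_symm hY hX heX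
  -- a nontrivial element of the four-group moved by `u` is not a product with `z` only
  have key : ∀ w w' : G, (u * w * u⁻¹ = w ∨ u * w * u⁻¹ = w * z) → ∀ b, b * z = z * b →
      b * w * b⁻¹ = w' → (u * w' * u⁻¹ = w' ∨ u * w' * u⁻¹ = w' * z) → w' ∈ Q z →
      (u * w * u⁻¹ = w ↔ u * w' * u⁻¹ = w') := by
    intro w w' hw b hbz hbw hw' hw'X
    have hbu := hfix b hbz
    have hzw' : z * w' = w' * z := (hX.le_cent w' hw'X).symm
    have hbzb : b * z * b⁻¹ = z := by rw [hbz, mul_inv_cancel_right]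
    have h1 : b * (u * w * u⁻¹) * b⁻¹ = u * w' * u⁻¹ := by
      calc b * (u * w * u⁻¹) * b⁻¹ = (b * u * b⁻¹) * (b * w * b⁻¹) * (b * u * b⁻¹)⁻¹ := by group
        _ = u * w' * u⁻¹ := by
          rw [hbw]
          rcases hbu with e1 | e1 <;> rw [e1]
          calc u * z * w' * (u * z)⁻¹ = u * (z * w') * z⁻¹ * u⁻¹ := by group
            _ = u * w' * u⁻¹ := by rw [hzw']; group
    constructor
    · intro hh; rw [hh, hbw] at h1; exact h1.symm
    · intro hh
      rcases hw with e1 | e1
      · exact e1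
      · exfalso
        rw [e1, hh] at h1
        have : w' * z = w' := by
          calc w' * z = (b * w * b⁻¹) * (b * z * b⁻¹) := by rw [hbw, hbzb]
            _ = b * (w * z) * b⁻¹ := by group
            _ = w' := h1
        exact hX.x_ne (by simpa using this)
  have hshift : ∀ w v b, w ∈ Q z → (v = e ∨ v = e * z) → b * z = z * b →
      b * w * b⁻¹ = w * v → False := by
    intro w v b hwX hv hbz hbw
    have hvX : v ∈ Q z := by rcases hv with rfl | rfl; exacts [heX, mul_mem heX hX.x_mem]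
    have huv : u * v * u⁻¹ = v * z := by
      rcases hv with rfl | rfl
      · exact hue
      · calc u * (e * z) * u⁻¹ = (u * e * u⁻¹) * (u * z * u⁻¹) := by group
          _ = e * z * z := by rw [hue, hX.le_cent u huX, mul_inv_cancel_right]
    have hsplit : u * (w * v) * u⁻¹ = (u * w * u⁻¹) * (v * z) := by rw [← huv]; group
    have hiff := key w (w * v) (hX.comm u huX w hwX) b hbz hbw
      (hX.comm u huX _ (mul_mem hwX hvX)) (mul_mem hwX hvX)
    rcases hX.comm u huX w hwX with e1 | e1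
    · have h2 := hiff.1 e1
      rw [hsplit, e1, ← mul_assoc] at h2
      exact hX.x_ne (by simpa using h2)
    · have h2 : u * (w * v) * u⁻¹ = w * v := by
        rw [hsplit, e1]
        calc w * z * (v * z) = w * (z * v) * z := by group
          _ = w * (v * z) * z := by rw [hX.le_cent v hvX]
          _ = w * v := by rw [mul_assoc, mul_assoc, hX.x_sq, mul_one]
      have h3 := hiff.2 h2
      rw [h3] at e1
      exact hX.x_ne (by simpa using e1.symm)
  -- the intersection is the four-group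
  have hD : ∀ d, d ∈ Q z → d ∈ Q e → d = 1 ∨ d = e ∨ d = z ∨ d = z * e := by
    intro d hdX hdY
    refine mem_four_of_commute hY hzY hdY fun b hb hbz => ?_
    by_contra hne'
    have h1 : b * d * b⁻¹ = d * e :=
      (hY.comm b hb d hdY).resolve_left fun e1 => hne' (conj_eq_iff_comm.1 e1)
    exact hshift d e b hdX (Or.inl rfl) hbz h1
  -- `C_{Q e}(z)` is in `Q z`
  have hB : ∀ b ∈ Q e, b * z = z * b → b ∈ Q z := by
    intro b hb hbz
    have hbe : b * e = e * b := hY.le_cent b hb
    refine mem_of_fix_coset hX heX huX hue (hfix b hbz) fun a ha hae => ?_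
    set d := a⁻¹ * (b * a * b⁻¹) with hd
    have hdX : d ∈ Q z := mul_mem (inv_mem ha) (hX.norm b hbz a ha)
    have hdY : d ∈ Q e := by
      have h1 := hY.norm a⁻¹
        (Commute.inv_left (hae : Commute a e)) b hb
      have h2 := mul_mem h1 (inv_mem hb)
      rw [inv_inv] at h2
      rw [hd]
      simpa [mul_assoc] using h2
    have hval : b * a * b⁻¹ = a * d := by rw [hd]; group
    rcases hD d hdX hdY with e1 | e1 | e1 | e1
    · left; rw [hval, e1, mul_one]
    · exact (hshift a e b ha (Or.inl rfl) hbz (by rw [hval, e1])).elim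
    · right; rw [hval, e1]
    · exact (hshift a (e * z) b ha (Or.inr rfl) hbz (by rw [hval, e1, hez])).elim
  -- counting
  have hcardY : Nat.card (Q e) = Nat.card (Q z) := by
    obtain ⟨g, rfl⟩ := hconj
    refine (Nat.card_congr
      { toFun := fun q => ⟨g * (q : G) * g⁻¹, hQ.conj_mem g q.2⟩
        invFun := fun q => ⟨g⁻¹ * (q : G) * g, by simpa [mul_assoc] using hQ.conj_mem g⁻¹ q.2⟩
        left_inv := fun q => Subtype.ext (show g⁻¹ * (g * (q : G) * g⁻¹) * g = q by group)
        right_inv := fun q => Subtype.ext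
          (show g * (g⁻¹ * (q : G) * g) * g⁻¹ = q by group) }).symm
  set S := extend hY (Subgroup.zpowers e) (Subgroup.zpowers_le.2 hY.x_mem)
    (Subgroup.mem_zpowers e) z hzY with hS
  have hzne : z ∉ Subgroup.zpowers e := fun hh =>
    (eq_or_of_mem_zpowers hY.x_sq hh).elim hX.x_ne (fun e1 => hne e1.symm)
  have hScard : Nat.card S = 4 := by
    rw [hS, card_extend hY _ _ _ _ _ hzne, Nat.card_zpowers,
      orderOf_eq_prime (p := 2) (by rw [pow_two, hY.x_sq]) hY.x_ne]
  have h1 := le_mul_centIn hY S (extend_le _ _ _ _ _ _) (Or.inl (Subgroup.mem_zpowers e))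
  have h2 : (centIn (Q e) S).ncard ≤ 4 := by
    refine (Set.ncard_le_ncard (t := ↑({1, e, z, z * e} : Finset G)) fun b hb => ?_).trans
      ((Set.ncard_coe_finset _).trans_le Finset.card_le_four)
    have := hD b (hB b hb.1 (hb.2 z (self_mem_extend _ _ _ _ _ _))) hb.1
    simpa using this
  rw [hScard, hcardY] at h1
  omega

end Cfsg.Agent.Lib.LargeExtra
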