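import Mathlib
import Cfsg.Agent.Lib.LargeExtra.FixedCoset
import Cfsg.Agent.Lib.TransferOrbit.Basic
import Cfsg.Agent.Lib.HallWielandt.Basic

/-!
Transfer to a subgroup `S` of a 2-group `P` with a normal extraspecial-like subgroup `E`: it vanishes
as soon as `E` is far from `S` (helper60).
-/

set_option autoImplicit false

namespace Cfsg.Agent.Lib.LargeExtra

open Subgroup

variable {P : Type*} [Group P]

/-- `S` extended by an element `e` normalising it whose square it contains. -/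
def adjoin (S : Subgroup P) (e : P) (hn : ∀ s ∈ S, e⁻¹ * s * e ∈ S) (he : e * e ∈ S) :
    Subgroup P where
  carrier := {g | g ∈ S ∨ e⁻¹ * g ∈ S}
  one_mem' := Or.inl S.one_mem
  mul_mem' := by
    have hn' : ∀ s ∈ S, e * s * e⁻¹ ∈ S := fun s hs => by
      have := mul_mem (mul_mem he (hn s hs)) (inv_mem he)
      simpa [mul_assoc] using this
    rintro a b (ha | ha) (hb | hb)
    · exact Or.inl (mul_mem ha hb)
    · exact Or.inr (by simpa [mul_assoc] using mul_mem (hn a ha) hb)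
    · exact Or.inr (by simpa [mul_assoc] using mul_mem ha hb)
    · refine Or.inl ?_
      have := mul_mem (mul_mem (hn' _ ha) he) hb
      simpa [mul_assoc] using this
  inv_mem' := by
    have hn' : ∀ s ∈ S, e * s * e⁻¹ ∈ S := fun s hs => by
      have := mul_mem (mul_mem he (hn s hs)) (inv_mem he)
      simpa [mul_assoc] using this
    rintro a (ha | ha)
    · exact Or.inl (inv_mem ha)
    · refine Or.inr ?_
      have := mul_mem (inv_mem he) (hn' _ (inv_mem ha))
      simpa [mul_assoc] using this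

theorem mem_adjoin {S : Subgroup P} {e : P} {hn : ∀ s ∈ S, e⁻¹ * s * e ∈ S} {he : e * e ∈ S} {g : P} :
    g ∈ adjoin S e hn he ↔ g ∈ S ∨ e⁻¹ * g ∈ S := Iff.rfl

/-- The data: squares and commutators of `E` lie in `{1, z}`, `z` central. -/
structure SmallDerived (E : Subgroup P) (z : P) : Prop where
  normal : E.Normal
  z_mem : z ∈ E
  z_sq : z * z = 1
  central : ∀ g : P, g * z = z * g
  sq : ∀ a ∈ E, a * a = 1 ∨ a * a = z
  comm : ∀ a ∈ E, ∀ b ∈ E, a * b * a⁻¹ = b ∨ a * b * a⁻¹ = b * z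

variable {E : Subgroup P} {z : P}

/-- The inner transfer step: with `z ∈ S`, an element of `E` outside `S` and normalised modulo
`E ∩ S`. -/
theorem exists_step [Finite P] (hE : SmallDerived E z) (hP : IsPGroup 2 P) {S : Subgroup P}
    (hES : ¬ E ≤ S) (hz : z ∈ S) :
    ∃ e ∈ E, e ∉ S ∧ e * e ∈ S ∧ ∀ s ∈ S, s⁻¹ * (e⁻¹ * s * e) ∈ E ⊓ S := by
  have hn : E.Normal := hE.normal
  set A := E ⊓ S with hA
  have hzA : z ∈ A := ⟨hE.z_mem, hz⟩
  have hmem : ∀ a ∈ A, ∀ b ∈ E, b * a * b⁻¹ ∈ A := by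
    intro a ha b hb
    rcases hE.comm b hb a ha.1 with e | e <;> rw [e]
    exacts [ha, mul_mem ha hzA]
  haveI : (A.subgroupOf E).Normal := ⟨fun a ha b => by
    rw [mem_subgroupOf] at ha ⊢
    exact hmem _ ha b b.2⟩
  -- `S` acts on `E ⧸ A`; the fixed points other than the trivial one
  let act : S → E ⧸ A.subgroupOf E → E ⧸ A.subgroupOf E := fun s =>
    QuotientGroup.map (A.subgroupOf E) (A.subgroupOf E)
      (MonoidHom.mk' (fun a : E => (⟨(s : P) * a * (s : P)⁻¹, hn.conj_mem a a.2 s⟩ : E))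
        (fun a b => Subtype.ext (by simp [mul_assoc])))
      (fun a ha => by
        rw [mem_subgroupOf] at ha
        refine ⟨hn.conj_mem a a.2 s, ?_⟩
        exact S.mul_mem (S.mul_mem s.2 ha.2) (S.inv_mem s.2))
  letI : MulAction S (E ⧸ A.subgroupOf E) :=
    { smul := act
      one_smul := fun q => by
        induction q using QuotientGroup.induction_on with
        | _ a =>
          show ((_ : E) : E ⧸ A.subgroupOf E) = _
          exact congrArg _ (Subtype.ext (by simp))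
      mul_smul := fun s t q => by
        induction q using QuotientGroup.induction_on with
        | _ a =>
          show ((_ : E) : E ⧸ A.subgroupOf E) = ((_ : E) : E ⧸ A.subgroupOf E)
          exact congrArg _ (Subtype.ext (by simp [mul_assoc])) }
  have hfix1 : ((1 : E) : E ⧸ A.subgroupOf E) ∈ MulAction.fixedPoints S (E ⧸ A.subgroupOf E) :=
    fun s => by
      show ((_ : E) : E ⧸ A.subgroupOf E) = _
      exact congrArg _ (Subtype.ext (by simp))
  have hdvd : 2 ∣ Nat.card (E ⧸ A.subgroupOf E) := by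
    haveI : Fact (Nat.Prime 2) := ⟨Nat.prime_two⟩
    rcases ((hP.to_subgroup E).to_quotient (A.subgroupOf E)).card_eq_or_dvd with h | h
    · exfalso
      refine hES fun a ha => ?_
      haveI := (Nat.card_eq_one_iff_unique.1 h).1
      have : ((⟨a, ha⟩ : E) : E ⧸ A.subgroupOf E) = 1 := Subsingleton.elim _ _
      exact ((QuotientGroup.eq_one_iff _).1 this).2
    · exact h
  haveI : Fact (Nat.Prime 2) := ⟨Nat.prime_two⟩
  obtain ⟨q, hq, hne⟩ := (hP.to_subgroup S).exists_fixed_point_of_prime_dvd_card_of_fixed_point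
    (E ⧸ A.subgroupOf E) hdvd hfix1
  obtain ⟨e, rfl⟩ := QuotientGroup.mk_surjective q
  refine ⟨e, e.2, fun heS => hne ?_, ?_, fun s hs => ?_⟩
  · exact QuotientGroup.eq.2 (by
      rw [mem_subgroupOf]
      have h1 : (e : P) ∈ A := ⟨e.2, heS⟩
      simp [h1, A.one_mem])
  · rcases hE.sq e e.2 with h | h <;> rw [h]
    exacts [S.one_mem, hz]
  · have h := hq ⟨s⁻¹, inv_mem hs⟩
    have h' : ((⟨s⁻¹ * (e : P) * s, by simpa using hn.conj_mem e e.2 s⁻¹⟩ : E) : E ⧸ A.subgroupOf E) =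
        (e : E ⧸ A.subgroupOf E) := by
      rw [← h]
      show _ = ((_ : E) : E ⧸ A.subgroupOf E)
      exact congrArg _ (Subtype.ext (by simp))
    have h1 := QuotientGroup.eq.1 h'
    rw [mem_subgroupOf] at h1
    simp only [Subgroup.coe_mul, Subgroup.coe_inv] at h1
    simpa [mul_assoc] using h1

/-- The transfer step `S → adjoin S e`. -/
theorem step_values [Finite P] {A : Type*} [CommGroup A] {S : Subgroup P} {e : P}
    (hn : ∀ s ∈ S, e⁻¹ * s * e ∈ S) (he : e * e ∈ S) (heS : e ∉ S)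
    (ψ : S.subgroupOf (adjoin S e hn he) →* A) :
    (∀ s : adjoin S e hn he, ∀ hs : (s : P) ∈ S,
      MonoidHom.transfer ψ s = ψ ⟨s, hs⟩ * ψ ⟨⟨e⁻¹ * s * e, Or.inl (hn s hs)⟩, hn s hs⟩) ∧
      MonoidHom.transfer ψ ⟨e, Or.inr (by simp)⟩ = ψ ⟨⟨e * e, Or.inl he⟩, he⟩ := by
  classical
  set e' : adjoin S e hn he := ⟨e, Or.inr (by simp)⟩ with he'
  haveI := Fintype.ofFinite ((adjoin S e hn he) ⧸ (S.subgroupOf (adjoin S e hn he)))
  have hne : ((1 : (adjoin S e hn he)) : (adjoin S e hn he) ⧸ (S.subgroupOf (adjoin S e hn he))) ≠ (e' : (adjoin S e hn he) ⧸ (S.subgroupOf (adjoin S e hn he))) := by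
    rw [Ne, QuotientGroup.eq]
    simp [mem_subgroupOf, he', heS]
  have hcases : ∀ q : (adjoin S e hn he) ⧸ (S.subgroupOf (adjoin S e hn he)), q = ((1 : (adjoin S e hn he)) : (adjoin S e hn he) ⧸ (S.subgroupOf (adjoin S e hn he))) ∨ q = (e' : (adjoin S e hn he) ⧸ (S.subgroupOf (adjoin S e hn he))) := by
    intro q
    induction q using QuotientGroup.induction_on with
    | _ g =>
      rcases g.2 with h | h
      · left; rw [QuotientGroup.eq]; simpa [mem_subgroupOf] using h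
      · right; symm; rw [QuotientGroup.eq]; simpa [mem_subgroupOf, he'] using h
  let t : (adjoin S e hn he) ⧸ (S.subgroupOf (adjoin S e hn he)) → (adjoin S e hn he) := fun q => if q = ((1 : (adjoin S e hn he)) : (adjoin S e hn he) ⧸ (S.subgroupOf (adjoin S e hn he))) then 1 else e'
  have ht : ∀ q, (t q : (adjoin S e hn he) ⧸ (S.subgroupOf (adjoin S e hn he))) = q := by
    intro q
    rcases hcases q with h | h
    · simp [t, h]
    · simp [t, h, Ne.symm hne]
  have huniv : (Finset.univ : Finset ((adjoin S e hn he) ⧸ (S.subgroupOf (adjoin S e hn he)))) = {((1 : (adjoin S e hn he)) : (adjoin S e hn he) ⧸ (S.subgroupOf (adjoin S e hn he))), (e' : (adjoin S e hn he) ⧸ (S.subgroupOf (adjoin S e hn he)))} := by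
    ext q
    simpa using hcases q
  have t1 : t ((1 : (adjoin S e hn he)) : (adjoin S e hn he) ⧸ (S.subgroupOf (adjoin S e hn he))) = 1 := if_pos rfl
  have te : t (e' : (adjoin S e hn he) ⧸ (S.subgroupOf (adjoin S e hn he))) = e' := if_neg (Ne.symm hne)
  constructor
  · intro s hs
    have hs1 : s • ((1 : (adjoin S e hn he)) : (adjoin S e hn he) ⧸ (S.subgroupOf (adjoin S e hn he))) = ((1 : (adjoin S e hn he)) : (adjoin S e hn he) ⧸ (S.subgroupOf (adjoin S e hn he))) := by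
      rw [MulAction.Quotient.smul_coe, QuotientGroup.eq]
      simpa [mem_subgroupOf] using hs
    have hse : s • (e' : (adjoin S e hn he) ⧸ (S.subgroupOf (adjoin S e hn he))) = (e' : (adjoin S e hn he) ⧸ (S.subgroupOf (adjoin S e hn he))) := by
      rw [MulAction.Quotient.smul_coe, QuotientGroup.eq]
      simpa [mem_subgroupOf, he', mul_assoc] using inv_mem (hn s hs)
    rw [TransferOrbit.transfer_eq_prod_section ψ t ht, huniv, Finset.prod_pair hne]
    congr 1
    · refine congrArg ψ (Subtype.ext ?_)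
      simp [hs1, t1]
    · refine congrArg ψ (Subtype.ext ?_)
      simp only [hse, te]
      exact Subtype.ext (by simp [he', mul_assoc])
  · have h1 : e' • ((1 : (adjoin S e hn he)) : (adjoin S e hn he) ⧸ (S.subgroupOf (adjoin S e hn he))) = (e' : (adjoin S e hn he) ⧸ (S.subgroupOf (adjoin S e hn he))) := by
      rw [MulAction.Quotient.smul_coe, smul_eq_mul, mul_one]
    have h2 : e' • (e' : (adjoin S e hn he) ⧸ (S.subgroupOf (adjoin S e hn he))) = ((1 : (adjoin S e hn he)) : (adjoin S e hn he) ⧸ (S.subgroupOf (adjoin S e hn he))) := by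
      rw [MulAction.Quotient.smul_coe, QuotientGroup.eq]
      simpa [mem_subgroupOf, he'] using inv_mem he
    rw [TransferOrbit.transfer_eq_prod_section ψ t ht, huniv, Finset.prod_pair hne]
    rw [show ψ ⟨(t (e' • ((1 : (adjoin S e hn he)) : (adjoin S e hn he) ⧸ (S.subgroupOf (adjoin S e hn he)))))⁻¹ * (e' * t ((1 : (adjoin S e hn he)) : (adjoin S e hn he) ⧸ (S.subgroupOf (adjoin S e hn he)))),
      TransferOrbit.section_mem t ht e' _⟩ = 1 by
        rw [show (⟨(t (e' • ((1 : (adjoin S e hn he)) : (adjoin S e hn he) ⧸ (S.subgroupOf (adjoin S e hn he)))))⁻¹ * (e' * t ((1 : (adjoin S e hn he)) : (adjoin S e hn he) ⧸ (S.subgroupOf (adjoin S e hn he)))),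
          TransferOrbit.section_mem t ht e' _⟩ : (S.subgroupOf (adjoin S e hn he))) = 1 from Subtype.ext (by simp [h1, t1, te])]
        exact map_one ψ, one_mul]
    refine congrArg ψ (Subtype.ext ?_)
    simp only [h2, t1, te]
    exact Subtype.ext (by simp [he'])

/-- One step: a hom on a bigger subgroup `M` with the same transfer. -/
theorem exists_next [Finite P] (hE : SmallDerived E z) (hP : IsPGroup 2 P) {S : Subgroup P}
    (hES : ¬ E ≤ S) (ψ : S →* ℤˣ) (hz : z ∈ S) :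
    ∃ (M : Subgroup P) (φ : M →* ℤˣ), S ≤ M ∧ MonoidHom.transfer ψ = MonoidHom.transfer φ ∧
      Nat.card ↥(E ⊓ M) ≤ 2 * Nat.card ↥(E ⊓ S) ∧
      (∀ hzM : z ∈ M, φ ⟨z, hzM⟩ = 1) ∧
      (ψ ⟨z, hz⟩ = 1 → ∀ a : M, (a : P) ∈ E → φ a = 1) ∧
      ((∀ a : S, (a : P) ∈ E → ψ a = 1) → φ = 1) := by
  classical
  obtain ⟨e, heE, heS, hee, hcom⟩ := exists_step hE hP hES hz
  have hn : ∀ s ∈ S, e⁻¹ * s * e ∈ S := fun s hs => by
    have := mul_mem hs (hcom s hs).2
    simpa [mul_assoc] using this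
  set M := adjoin S e hn hee with hM
  have hSM : S ≤ M := fun s hs => Or.inl hs
  let ψ' := ψ.comp (subgroupOfEquivOfLe hSM).toMonoidHom
  set φ : M →* ℤˣ := MonoidHom.transfer ψ' with hφ
  obtain ⟨hvS, hve⟩ := step_values hn hee heS ψ'
  -- value on `S`
  have hval : ∀ s : M, ∀ hs : (s : P) ∈ S,
      φ s = ψ ⟨(s : P)⁻¹ * (e⁻¹ * s * e), (hcom s hs).2⟩ := by
    intro s hs
    rw [hφ, hvS s hs]
    show ψ _ * ψ _ = _
    rw [← Int.units_inv_eq_self (ψ _), ← map_inv, ← map_mul]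
    exact congrArg ψ (Subtype.ext rfl)
  have hz1 : ∀ hzM : z ∈ M, φ ⟨z, hzM⟩ = 1 := fun hzM => by
    rw [hval ⟨z, hzM⟩ hz]
    rw [show (⟨(z : P)⁻¹ * (e⁻¹ * z * e), (hcom z hz).2⟩ : S) = 1 from Subtype.ext (by
      show z⁻¹ * (e⁻¹ * z * e) = 1
      rw [mul_assoc e⁻¹, ← hE.central e, inv_mul_cancel_left, inv_mul_cancel]), map_one]
  have hvale : φ ⟨e, Or.inr (by simp)⟩ = ψ ⟨e * e, hee⟩ := hve
  -- decomposition of elements of `M`
  have hdec : ∀ a : M, (a : P) ∈ S ∨ ∃ s : M, (s : P) ∈ S ∧ a = ⟨e, Or.inr (by simp)⟩ * s := by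
    intro a
    rcases a.2 with h | h
    · exact Or.inl h
    · exact Or.inr ⟨⟨e⁻¹ * a, Or.inl h⟩, h, Subtype.ext (by simp)⟩
  refine ⟨M, φ, hSM, MonoidHom.ext fun x => HallWielandt.transfer_trans hSM ψ x, ?_, hz1, ?_, ?_⟩
  · have h1 : ((E ⊓ M : Subgroup P) : Set P) ⊆
        ((E ⊓ S : Subgroup P) : Set P) ∪ (e * ·) '' ((E ⊓ S : Subgroup P) : Set P) := by
      rintro a ⟨haE, h | h⟩
      · exact Or.inl ⟨haE, h⟩
      · exact Or.inr ⟨e⁻¹ * a, Subgroup.mem_inf.2 ⟨mul_mem (inv_mem heE) haE, h⟩, by simp⟩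
    calc Nat.card ↥(E ⊓ M) = ((E ⊓ M : Subgroup P) : Set P).ncard := Nat.card_coe_set_eq _
      _ ≤ _ := Set.ncard_le_ncard h1
      _ ≤ _ := Set.ncard_union_le _ _
      _ = 2 * ((E ⊓ S : Subgroup P) : Set P).ncard := by
        rw [Set.ncard_image_of_injective _ (mul_right_injective e), two_mul]
      _ = 2 * Nat.card ↥(E ⊓ S) := by rw [← Nat.card_coe_set_eq]; rfl
  · intro hψz a haE
    have hsmall : ∀ w : S, (w : P) = 1 ∨ (w : P) = z → ψ w = 1 := by
      rintro w (h | h)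
      · rw [show w = 1 from Subtype.ext h, map_one]
      · rw [show w = ⟨z, hz⟩ from Subtype.ext h, hψz]
    have hS' : ∀ s : M, (s : P) ∈ S → (s : P) ∈ E → φ s = 1 := fun s hs hsE => by
      rw [hval s hs]
      refine hsmall _ ?_
      have hc := hE.comm e⁻¹ (inv_mem heE) _ hsE
      rw [inv_inv] at hc
      show (s : P)⁻¹ * (e⁻¹ * s * e) = 1 ∨ (s : P)⁻¹ * (e⁻¹ * s * e) = z
      rcases hc with h | h <;> rw [h]
      · exact Or.inl (inv_mul_cancel _)
      · exact Or.inr (inv_mul_cancel_left _ _)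
    rcases hdec a with h | ⟨s, hs, rfl⟩
    · exact hS' a h haE
    · rw [map_mul, hvale, hsmall _ (hE.sq e heE), one_mul]
      refine hS' s hs ?_
      have : e⁻¹ * (e * (s : P)) ∈ E := mul_mem (inv_mem heE) haE
      simpa using this
  · intro hkill
    refine MonoidHom.ext fun a => ?_
    have hS' : ∀ s : M, (s : P) ∈ S → φ s = 1 := fun s hs => by
      rw [hval s hs]; exact hkill _ (hcom s hs).1
    rcases hdec a with h | ⟨s, hs, rfl⟩
    · exact hS' a h
    · rw [map_mul, hvale, hS' s hs, mul_one, MonoidHom.one_apply]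
      exact hkill _ (mul_mem heE heE)

theorem transfer_one [Finite P] {M : Subgroup P} : MonoidHom.transfer (1 : M →* ℤˣ) = 1 := by
  classical
  haveI := Fintype.ofFinite (P ⧸ M)
  refine MonoidHom.ext fun x => ?_
  rw [TransferOrbit.transfer_eq_prod_section _ Quotient.out QuotientGroup.out_eq']
  simp

/-- If `ψ` kills `E ∩ S` and `E ≰ S`, the transfer is trivial. -/
theorem transfer_eq_one_of_kill [Finite P] (hE : SmallDerived E z) (hP : IsPGroup 2 P) {S : Subgroup P}
    (hES : ¬ E ≤ S) (ψ : S →* ℤˣ) (hz : z ∈ S) (hkill : ∀ a : S, (a : P) ∈ E → ψ a = 1) :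
    MonoidHom.transfer ψ = 1 := by
  obtain ⟨M, φ, -, hV, -, -, -, h⟩ := exists_next hE hP hES ψ hz
  rw [hV, h hkill, transfer_one]

/-- If `ψ z = 1` and `[E : E ∩ S] ≥ 4`, the transfer is trivial. -/
theorem transfer_eq_one_of_four [Finite P] (hE : SmallDerived E z) (hP : IsPGroup 2 P) {S : Subgroup P}
    (ψ : S →* ℤˣ) (hz : z ∈ S) (hψz : ψ ⟨z, hz⟩ = 1)
    (hcard : 4 * Nat.card ↥(E ⊓ S) ≤ Nat.card E) : MonoidHom.transfer ψ = 1 := by
  have hpos : 0 < Nat.card ↥(E ⊓ S) := Nat.card_pos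
  have hES : ¬ E ≤ S := fun h => by
    have := Nat.card_pos (α := E)
    rw [inf_eq_left.2 h] at hcard; omega
  obtain ⟨M, φ, hSM, hV, hc, -, h, -⟩ := exists_next hE hP hES ψ hz
  rw [hV]
  refine transfer_eq_one_of_kill hE hP (fun hle => ?_) φ (hSM hz) (h hψz)
  rw [inf_eq_left.2 hle] at hc
  have := Nat.card_pos (α := E)
  omega

/-- If `[E : E ∩ S] ≥ 8`, the transfer is trivial. -/
theorem transfer_eq_one_of_eight [Finite P] (hE : SmallDerived E z) (hP : IsPGroup 2 P) {S : Subgroup P}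
    (ψ : S →* ℤˣ) (hz : z ∈ S) (hcard : 8 * Nat.card ↥(E ⊓ S) ≤ Nat.card E) :
    MonoidHom.transfer ψ = 1 := by
  have hpos : 0 < Nat.card ↥(E ⊓ S) := Nat.card_pos
  have hES : ¬ E ≤ S := fun h => by
    have := Nat.card_pos (α := E)
    rw [inf_eq_left.2 h] at hcard; omega
  obtain ⟨M, φ, hSM, hV, hc, h, -, -⟩ := exists_next hE hP hES ψ hz
  rw [hV]
  exact transfer_eq_one_of_four hE hP φ (hSM hz) (h (hSM hz)) (by omega)

/-- If `z ∉ S`, the transfer is trivial. -/
theorem transfer_eq_one_of_notMem [Finite P] (hE : SmallDerived E z) {S : Subgroup P}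
    (ψ : S →* ℤˣ) (hz : z ∉ S) : MonoidHom.transfer ψ = 1 := by
  have hn : ∀ s ∈ S, z⁻¹ * s * z ∈ S := fun s hs => by
    rw [mul_assoc, hE.central s, inv_mul_cancel_left]; exact hs
  have hee : z * z ∈ S := by rw [hE.z_sq]; exact S.one_mem
  set M := adjoin S z hn hee
  have hSM : S ≤ M := fun s hs => Or.inl hs
  let ψ' := ψ.comp (subgroupOfEquivOfLe hSM).toMonoidHom
  obtain ⟨hvS, hve⟩ := step_values hn hee hz ψ'
  have hS' : ∀ s : M, ∀ hs : (s : P) ∈ S, MonoidHom.transfer ψ' s = 1 := fun s hs => by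
    rw [hvS s hs]
    show ψ _ * ψ _ = 1
    rw [← Int.units_mul_self (ψ ⟨(s : P), hs⟩)]
    refine congrArg₂ (· * ·) rfl (congrArg ψ (Subtype.ext ?_))
    show z⁻¹ * (s : P) * z = s
    rw [mul_assoc, hE.central (s : P), inv_mul_cancel_left]
  have hφ : MonoidHom.transfer ψ' = 1 := by
    refine MonoidHom.ext fun a => ?_
    rcases a.2 with h | h
    · exact hS' a h
    · have ha : a = (⟨z, Or.inr (by simp)⟩ : M) * ⟨z⁻¹ * a, Or.inl h⟩ := Subtype.ext (by simp)
      rw [ha, map_mul, hve, hS' _ h, mul_one, MonoidHom.one_apply]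
      show ψ _ = 1
      rw [← map_one ψ]
      exact congrArg ψ (Subtype.ext hE.z_sq)
  refine MonoidHom.ext fun x => ?_
  rw [HallWielandt.transfer_trans hSM ψ x, hφ, transfer_one]

end Cfsg.Agent.Lib.LargeExtra
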