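import Mathlib
import Cfsg.Agent.Lib.LargeExtra.OrbitTransfer
import Cfsg.Agent.Lib.Transfer.PResidual

/-!
A character of order 2 of `C(z)`, `O₂(C(z))` large extraspecial, survives the transfer to `G` as soon as
`O₂(C(z))` is far from the stabilisers of the other cosets; hence it is absent when `O²(G) = G`
(helper60).
-/

set_option autoImplicit false

namespace Cfsg.Agent.Lib.LargeExtra

open Subgroup

variable {G : Type*} [Group G]

theorem mem_centralizer_singleton' {w a : G} :
    a ∈ centralizer ({w} : Set G) ↔ a * w = w * a := mem_centralizer_singleton_iff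

theorem commute_conj_iff (g a z : G) :
    (g⁻¹ * a * g) * z = z * (g⁻¹ * a * g) ↔ a * (g * z * g⁻¹) = (g * z * g⁻¹) * a := by
  constructor <;> intro h
  · calc a * (g * z * g⁻¹) = g * ((g⁻¹ * a * g) * z) * g⁻¹ := by group
      _ = g * (z * (g⁻¹ * a * g)) * g⁻¹ := by rw [h]
      _ = (g * z * g⁻¹) * a := by group
  · calc (g⁻¹ * a * g) * z = g⁻¹ * (a * (g * z * g⁻¹)) * g := by group
      _ = g⁻¹ * ((g * z * g⁻¹) * a) * g := by rw [h]
      _ = z * (g⁻¹ * a * g) := by group

/-- Main transfer lemma. -/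
theorem false_of_character [Finite G] {X : Subgroup G} {z : G}
    (hres : Cfsg.pResidual 2 G = ⊤) (hX : Good X z) (hXp : IsPGroup 2 X)
    {H : Subgroup G} (hzH : ∀ a, a ∈ H ↔ a * z = z * a)
    (χ : H →* ℤˣ) (hχ : ∃ h, χ h ≠ 1)
    (horb : ∀ g : G, g * z * g⁻¹ ≠ z → (hg : (g * z * g⁻¹) * z = z * (g * z * g⁻¹)) →
      (∀ a : H, g * (a : G) * g⁻¹ ∈ X → χ a = 1) ∨
      ((∀ a : H, g * (a : G) * g⁻¹ = z → χ a = 1) ∧
        4 * Nat.card ↥(X ⊓ centralizer ({g * z * g⁻¹} : Set G)) ≤ Nat.card X) ∨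
      8 * Nat.card ↥(X ⊓ centralizer ({g * z * g⁻¹} : Set G)) ≤ Nat.card X) : False := by
  classical
  haveI : Fact (Nat.Prime 2) := ⟨Nat.prime_two⟩
  have hXH : X ≤ H := fun a ha => (hzH a).2 (hX.le_cent a ha)
  -- a 2-element outside the kernel
  obtain ⟨h, hh⟩ := hχ
  obtain ⟨k, m, hm, hhm⟩ := Nat.exists_eq_pow_mul_and_not_dvd (orderOf_pos h).ne' 2 (by norm_num)
  set t : H := h ^ m with ht
  have htne : χ t ≠ 1 := by
    rw [ht, map_pow, (Int.units_eq_one_or (χ h)).resolve_left hh,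
      (Nat.odd_iff.2 (Nat.two_dvd_ne_zero.1 hm)).neg_one_pow]
    decide
  have ht2 : IsPGroup 2 ↥(zpowers (t : G)) := by
    refine IsPGroup.of_card (n := k) ?_
    rw [Nat.card_zpowers, Subgroup.orderOf_coe, ht,
      orderOf_pow_of_dvd (fun h0 => hm (by rw [h0]; exact dvd_zero _)) ⟨2 ^ k, by rw [hhm, mul_comm]⟩, hhm,
      Nat.mul_div_cancel _ (Nat.pos_of_ne_zero fun h0 => hm (by rw [h0]; exact dvd_zero _))]
  -- the 2-group `P = X⟨t⟩`
  set P := zpowers (t : G) ⊔ X with hP
  have hnorm : zpowers (t : G) ≤ normalizer (X : Set G) := zpowers_le.2 (by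
    have htz : (t : G) * z = z * (t : G) := (hzH _).1 t.2
    rw [mem_normalizer_iff]
    refine fun q => ⟨fun hq => hX.norm _ htz q hq, fun hq => ?_⟩
    have := hX.norm _ (Commute.inv_left (htz : Commute (t : G) z)) _ hq
    simpa [mul_assoc] using this)
  have hPp : IsPGroup 2 P := ht2.to_sup_of_normal_right' hXp hnorm
  have hPH : P ≤ H := sup_le (zpowers_le.2 t.2) hXH
  have hXP : X ≤ P := le_sup_right
  set E : Subgroup P := X.subgroupOf P with hE
  set z' : P := ⟨z, hXP hX.x_mem⟩ with hz'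
  have hE' : SmallDerived E z' := by
    refine ⟨⟨fun a ha p => ?_⟩, hX.x_mem, Subtype.ext hX.x_sq, fun p => Subtype.ext ((hzH _).1 (hPH p.2)),
      fun a ha => ?_, fun a ha b hb => ?_⟩
    · rw [hE, mem_subgroupOf] at ha ⊢
      exact hX.norm _ ((hzH _).1 (hPH p.2)) _ ha
    · rcases hX.sq_cases (a := (a : G)) ha with e | e
      · exact Or.inl (Subtype.ext e)
      · exact Or.inr (Subtype.ext e)
    · rcases hX.comm (a : G) ha (b : G) hb with e | e
      · exact Or.inl (Subtype.ext e)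
      · exact Or.inr (Subtype.ext e)
  have hEcard : Nat.card E = Nat.card X := Nat.card_congr (subgroupOfEquivOfLe hXP).toEquiv
  have htP : (t : G) ∈ P := le_sup_left (α := Subgroup G) (mem_zpowers _)
  -- the transfer vanishes
  have hV : MonoidHom.transfer χ (t : G) = 1 := by
    have hp2 : IsPGroup 2 ℤˣ := fun a => ⟨1, by rw [pow_one]; exact Int.units_sq a⟩
    have h1 : Cfsg.pResidual 2 G ≤ (MonoidHom.transfer χ).ker := Transfer.pResidual_le_ker hp2 _
    rw [hres] at h1
    exact MonoidHom.mem_ker.1 (h1 (mem_top _))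
  haveI : Fintype (MulAction.orbitRel.Quotient P (G ⧸ H)) := Fintype.ofFinite _
  set a0 : MulAction.orbitRel.Quotient P (G ⧸ H) := Quotient.mk'' ((1 : G) : G ⧸ H) with ha0
  rw [show (t : G) = ((⟨(t : G), htP⟩ : P) : G) from rfl,
    TransferOrbit.transfer_eq_prod_orbits χ P ⟨(t : G), htP⟩,
    Finset.prod_eq_single a0 ?_ (fun hh' => absurd (Finset.mem_univ a0) hh')] at hV
  · -- the trivial coset
    have hout : a0.out = ((1 : G) : G ⧸ H) := by
      obtain ⟨s, hs⟩ : a0.out ∈ MulAction.orbit P ((1 : G) : G ⧸ H) :=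
        Quotient.exact' (Quotient.out_eq' a0)
      rw [← hs]
      refine QuotientGroup.eq.2 ?_
      simpa using H.inv_mem (hPH s.2)
    have htop : MulAction.stabilizer P a0.out = ⊤ := by
      rw [hout, eq_top_iff]
      intro s _
      refine QuotientGroup.eq.2 ?_
      simpa using H.inv_mem (hPH s.2)
    rw [TransferOrbit.transfer_of_eq_top _ htop] at hV
    have hc : a0.out.out ∈ H := by
      have h1 : (a0.out.out : G ⧸ H) = ((1 : G) : G ⧸ H) := by rw [QuotientGroup.out_eq', hout]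
      simpa using QuotientGroup.eq.1 h1
    rw [TransferOrbit.orbitHom_apply χ P a0.out ⟨⟨(t : G), htP⟩, htop ▸ mem_top _⟩
        (H.mul_mem (H.mul_mem (H.inv_mem hc) t.2) hc),
      show (⟨a0.out.out⁻¹ * (t : G) * a0.out.out, H.mul_mem (H.mul_mem (H.inv_mem hc) t.2) hc⟩ : H) =
        (⟨a0.out.out, hc⟩ : H)⁻¹ * t * ⟨a0.out.out, hc⟩ from rfl,
      map_mul, map_mul, map_inv, mul_comm, mul_inv_cancel_left] at hV
    exact htne hV
  · -- the other orbits
    intro ω _ hω
    set a := ω.out with ha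
    set g := a.out with hg
    set S := MulAction.stabilizer P a with hS
    set w := g * z * g⁻¹ with hw
    have hga : (g : G ⧸ H) = a := QuotientGroup.out_eq' a
    have hSmem : ∀ s : P, s ∈ S ↔ (s : G) * w = w * (s : G) := fun s => by
      rw [hw, ← commute_conj_iff, ← hzH, hS, MulAction.mem_stabilizer_iff]
      conv_lhs => rw [← hga]
      show (((s : G) * g : G) : G ⧸ H) = (g : G ⧸ H) ↔ _
      rw [eq_comm, QuotientGroup.eq, mul_assoc]
    have hgH : g ∉ H := fun hgH => by
      refine hω ?_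
      have h1 : a = ((1 : G) : G ⧸ H) := by
        rw [← hga, QuotientGroup.eq]; simpa using H.inv_mem hgH
      rw [ha0, ← h1, ha]
      exact (Quotient.out_eq' ω).symm
    have hwz : w ≠ z := fun hh' => hgH ((hzH g).2 (mul_inv_eq_iff_eq_mul.1 hh'))
    set ψ : S →* ℤˣ := TransferOrbit.orbitHom χ P a with hψ
    have hψval : ∀ (s : S) (a' : H), g * (a' : G) * g⁻¹ = ((s : P) : G) → ψ s = χ a' := fun s a' hs => by
      have h1 : g⁻¹ * ((s : P) : G) * g = a' := by rw [← hs]; group
      rw [hψ, TransferOrbit.orbitHom_apply χ P a s (by rw [h1]; exact a'.2)]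
      exact congrArg χ (Subtype.ext h1)
    suffices h0 : MonoidHom.transfer ψ = 1 by
      show MonoidHom.transfer ψ _ = 1
      rw [h0, MonoidHom.one_apply]
    by_cases hzS : z' ∈ S
    · have hwz' : w * z = z * w := ((hSmem z').1 hzS).symm
      have hcard : Nat.card ↥(E ⊓ S) = Nat.card ↥(X ⊓ centralizer ({w} : Set G)) := Nat.card_congr
        { toFun := fun s => ⟨((s : P) : G), s.2.1, mem_centralizer_singleton_iff.2 ((hSmem _).1 s.2.2)⟩
          invFun := fun x => ⟨⟨(x : G), hXP x.2.1⟩, x.2.1, (hSmem _).2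
            (mem_centralizer_singleton'.1 x.2.2)⟩
          left_inv := fun s => rfl
          right_inv := fun x => rfl }
      have hinH : ∀ x : G, x * w = w * x → g⁻¹ * x * g ∈ H := fun x hx =>
        (hzH _).2 ((commute_conj_iff g x z).2 hx)
      rcases horb g hwz hwz' with h1 | ⟨h1, h2⟩ | h1
      · refine transfer_eq_one_of_kill hE' hPp (fun hES => hwz ?_) ψ hzS fun s hs => ?_
        · -- `X` fixes no coset but the trivial one
          have hall : ∀ q ∈ X, w * q = q * w := fun q hq =>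
            ((hSmem ⟨q, hXP hq⟩).1 (hES hq)).symm
          refine (hX.centre w (hX.cent w hall) hall).resolve_left fun e => hX.x_ne ?_
          calc z = g⁻¹ * w * g := by rw [hw]; group
            _ = 1 := by rw [e]; group
        · rw [hψval s ⟨g⁻¹ * ((s : P) : G) * g, hinH _ ((hSmem _).1 s.2)⟩ (by group)]
          exact h1 _ (by
            show g * (g⁻¹ * ((s : P) : G) * g) * g⁻¹ ∈ X
            rw [show g * (g⁻¹ * ((s : P) : G) * g) * g⁻¹ = ((s : P) : G) by group]
            exact hs)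
      · refine transfer_eq_one_of_four hE' hPp ψ hzS ?_ (by rw [hcard, hEcard]; exact h2)
        rw [hψval ⟨z', hzS⟩ ⟨g⁻¹ * z * g, hinH z hwz'.symm⟩ (by
          show g * (g⁻¹ * z * g) * g⁻¹ = z
          group)]
        exact h1 _ (by group)
      · exact transfer_eq_one_of_eight hE' hPp ψ hzS (by rw [hcard, hEcard]; exact h1)
    · exact transfer_eq_one_of_notMem hE' ψ hzS

/-- The sign character of a subgroup of index 2. -/
theorem exists_character {H K : Subgroup G} (hKi : K.relIndex H = 2) :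
    ∃ χ : H →* ℤˣ, (∀ a : H, χ a = 1 ↔ (a : G) ∈ K) ∧ ∃ a, χ a ≠ 1 := by
  classical
  have hiff : ∀ a b : H, ((a * b : H) : G) ∈ K ↔ ((a : G) ∈ K ↔ (b : G) ∈ K) := fun a b =>
    Subgroup.mul_mem_iff_of_index_two (H := K.subgroupOf H) hKi (a := a) (b := b)
  refine ⟨MonoidHom.mk' (fun a => if (a : G) ∈ K then 1 else -1) fun a b => ?_, fun a => ?_, ?_⟩
  · by_cases ha : (a : G) ∈ K <;> by_cases hb : (b : G) ∈ K <;>
      simp only [ha, hb, hiff a b, if_true, if_false] <;> simp
  · by_cases ha : (a : G) ∈ K <;> simp [ha]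
  · by_contra hcon
    rw [not_exists] at hcon
    have : H ≤ K := fun a ha => by
      by_contra hn
      exact hcon ⟨a, ha⟩ (by simp [hn])
    rw [Subgroup.relIndex_eq_one.2 this] at hKi
    norm_num at hKi

/-- A commutative subgroup of `X` through `z` has order at most `√(2|X|)`. -/
theorem sq_card_le_of_comm [Finite G] {X : Subgroup G} {z : G} (hX : Good X z) (A : Subgroup G)
    (hA : A ≤ X) (hz : z ∈ A) (hc : ∀ a ∈ A, ∀ b ∈ A, a * b = b * a) :
    Nat.card A * Nat.card A ≤ 2 * Nat.card X := by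
  refine le_trans (Nat.mul_le_mul_left _ ?_) (mul_centIn_le hX A hA hz)
  rw [← Nat.card_coe_set_eq]
  exact Nat.card_mono (Set.toFinite _) fun a ha => ⟨hA ha, hc a ha⟩

/-- An involution of `C(z)` outside `X` does not centralise a hyperplane of `X`. -/
theorem four_mul_card_le [Finite G] {X : Subgroup G} {z y : G} (hX : Good X z) (hXp : IsPGroup 2 X)
    (hy2 : y * y = 1) (hyz : y * z = z * y) (hyX : y ∉ X) :
    4 * Nat.card ↥(X ⊓ centralizer ({y} : Set G)) ≤ Nat.card X := by
  classical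
  set A := X ⊓ centralizer ({y} : Set G) with hA
  have hAmem : ∀ a, a ∈ A ↔ a ∈ X ∧ a * y = y * a := fun a =>
    ⟨fun h => ⟨h.1, mem_centralizer_singleton'.1 h.2⟩,
      fun h => ⟨h.1, mem_centralizer_singleton'.2 h.2⟩⟩
  have hzA : z ∈ A := (hAmem z).2 ⟨hX.x_mem, hyz.symm⟩
  obtain ⟨j, hj⟩ : ∃ j, Nat.card X = 2 ^ j * Nat.card A := by
    haveI : Fact (Nat.Prime 2) := ⟨Nat.prime_two⟩
    obtain ⟨a, ha⟩ := IsPGroup.iff_card.1 hXp
    obtain ⟨b, hb⟩ := IsPGroup.iff_card.1 (hXp.to_le (inf_le_left : A ≤ X))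
    have hle : b ≤ a := (Nat.pow_le_pow_iff_right one_lt_two).1
      (ha ▸ hb ▸ Nat.le_of_dvd Nat.card_pos (card_dvd_of_le (inf_le_left : A ≤ X)))
    exact ⟨a - b, by rw [ha, hb, ← pow_add, Nat.sub_add_cancel hle]⟩
  have hconjA : ∀ x ∈ X, ∀ a ∈ A, x * a * x⁻¹ ∈ A := fun x hx a ha => by
    rcases hX.comm x hx a ((hAmem a).1 ha).1 with e | e <;> rw [e]
    exacts [ha, mul_mem ha hzA]
  rcases j with _ | _ | j
  · exfalso
    have : A = X := eq_of_le_of_card_ge inf_le_left (by rw [hj, pow_zero, one_mul])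
    exact hyX (hX.cent y fun q hq => (((hAmem q).1 (this.symm ▸ hq)).2).symm)
  · exfalso
    have hidx : (A.subgroupOf X).index = 2 := by
      have h1 := (A.subgroupOf X).card_mul_index
      rw [Nat.card_congr (subgroupOfEquivOfLe (inf_le_left : A ≤ X)).toEquiv, hj,
        mul_comm (2 ^ _)] at h1
      simpa using Nat.eq_of_mul_eq_mul_left Nat.card_pos h1
    have hne : A.subgroupOf X ≠ ⊤ := fun h => by rw [h, index_top] at hidx; norm_num at hidx
    obtain ⟨⟨e, heX⟩, heA⟩ : ∃ e : X, e ∉ A.subgroupOf X := by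
      by_contra hcon
      rw [not_exists] at hcon
      exact hne (eq_top_iff.2 fun e _ => not_not.1 (hcon e))
    have hdec : ∀ q ∈ X, q ∈ A ∨ e⁻¹ * q ∈ A := fun q hq => by
      by_cases hqA : q ∈ A
      · exact Or.inl hqA
      · refine Or.inr ((Subgroup.mul_mem_iff_of_index_two hidx
          (a := ⟨e⁻¹, inv_mem heX⟩) (b := ⟨q, hq⟩)).2 (iff_of_false (fun h => heA ?_) hqA))
        exact (inv_mem_iff (H := A.subgroupOf X) (x := ⟨e, heX⟩)).1 h
    set f := e⁻¹ * (y * e * y⁻¹) with hf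
    have hfX : f ∈ X := mul_mem (inv_mem heX) (hX.norm y hyz e heX)
    have hye : y * e * y⁻¹ = e * f := by rw [hf]; group
    have hfA : ∀ a ∈ A, f * a = a * f := by
      intro a ha
      set a' := e * a * e⁻¹ with ha'
      have ha'A : a' ∈ A := hconjA e heX a ha
      have h1 : y * a' * y⁻¹ = a' := conj_eq_iff_comm.2 ((hAmem a').1 ha'A).2.symm
      have h2 : y * a * y⁻¹ = a := conj_eq_iff_comm.2 ((hAmem a).1 ha).2.symm
      have h3 : (e * f) * a * (e * f)⁻¹ = e * a * e⁻¹ := by
        calc (e * f) * a * (e * f)⁻¹ = (y * e * y⁻¹) * (y * a * y⁻¹) * (y * e * y⁻¹)⁻¹ := by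
              rw [hye, h2]
          _ = y * a' * y⁻¹ := by rw [ha']; group
          _ = a' := h1
      rw [← conj_eq_iff_comm]
      calc f * a * f⁻¹ = e⁻¹ * ((e * f) * a * (e * f)⁻¹) * e := by group
        _ = a := by rw [h3]; group
    have hnfc : ¬ Commute f e := fun hfe => by
      have hcen : ∀ q ∈ X, f * q = q * f := fun q hq => by
        rcases hdec q hq with h | h
        · exact hfA q h
        · have := hfe.mul_right (hfA _ h)
          rwa [mul_inv_cancel_left] at this
      refine hyX (mem_of_inner hX y fun q hq => ?_)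
      rcases hdec q hq with h | h
      · exact Or.inl (conj_eq_iff_comm.2 ((hAmem q).1 h).2.symm)
      · have hq' : y * (e⁻¹ * q) * y⁻¹ = e⁻¹ * q := conj_eq_iff_comm.2 ((hAmem _).1 h).2.symm
        have hval : y * q * y⁻¹ = e * f * (e⁻¹ * q) := by
          calc y * q * y⁻¹ = (y * e * y⁻¹) * (y * (e⁻¹ * q) * y⁻¹) := by group
            _ = _ := by rw [hye, hq']
        rcases hX.centre f hfX hcen with e1 | e1
        · left; rw [hval, e1]; group
        · right
          rw [hval, e1, mul_assoc, ← hX.le_cent (e⁻¹ * q) (mul_mem (inv_mem heX) hq)]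
          group
    have hfA' : f ∈ A := by
      refine (hdec f hfX).resolve_right fun h => hnfc ?_
      have h1 : Commute f (e⁻¹ * f) := hfA _ h
      have h2 : Commute f (f * (e⁻¹ * f)⁻¹) := (Commute.refl f).mul_right h1.inv_right
      rwa [mul_inv_rev, inv_inv, mul_inv_cancel_left] at h2
    have hyf : y * f * y⁻¹ = f := conj_eq_iff_comm.2 ((hAmem f).1 hfA').2.symm
    have hff : f * f = 1 := by
      have h1 : y * (y * e * y⁻¹) * y⁻¹ = e := by
        calc y * (y * e * y⁻¹) * y⁻¹ = (y * y) * e * (y * y)⁻¹ := by group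
          _ = e := by rw [hy2]; group
      rw [hye, show y * (e * f) * y⁻¹ = (y * e * y⁻¹) * (y * f * y⁻¹) by group, hye, hyf,
        mul_assoc] at h1
      simpa using h1
    have hee : y * (e * e) * y⁻¹ = e * e := by
      rcases hX.sq_cases heX with h | h <;> rw [h]
      · group
      · rw [hyz, mul_inv_cancel_right]
    have hfin : (e * f) * (e * f) = e * e := by
      rw [← hee, show y * (e * e) * y⁻¹ = (y * e * y⁻¹) * (y * e * y⁻¹) by group, hye]
    refine hnfc ?_
    have h4 : f * e * f = e := by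
      have h5 : e * (f * e * f) = e * e := by rw [← hfin]; group
      exact mul_left_cancel h5
    calc f * e = f * e * (f * f) := by rw [hff, mul_one]
      _ = (f * e * f) * f := by group
      _ = e * f := by rw [h4]
  · rw [hj]
    refine Nat.mul_le_mul_right _ ?_
    calc 4 = 2 ^ 2 := rfl
      _ ≤ 2 ^ (j + 1 + 1) := Nat.pow_le_pow_right (by norm_num) (by omega)

end Cfsg.Agent.Lib.LargeExtra
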